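import Cfsg.Agent.Lib.Block.PairSolvable.Basic
import Cfsg.Agent.Lib.Block.AbelianFreeThree

/-!
# One class of elements of order `p` in an elementary abelian Sylow subgroup

In a simple group, if all pairs of elements of order `p` generate `p`-solvable subgroups and the
centralizers of these elements are `p`-nilpotent then `p = 2`.  Of the `p - 1` products `x * y ^ j` at
most one is regular; the character count gives more.
-/

set_option autoImplicit false
set_option linter.unusedSectionVars false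
set_option maxHeartbeats 800000

open Finset
open scoped ComplexConjugate

namespace CfsgLib.Block.PairSolvable

open Cfsg CfsgLib.Char CfsgLib.Block

universe u

variable {G : Type u} [Group G] [Finite G] [IsSimpleGroup G] {p : ℕ} [Fact p.Prime]

/-- At most a `1 / (p - 1)` part of the class has regular product with `x`. -/
theorem regular_products_le (P : Sylow p G) (hP : IsMulCommutative (P : Subgroup G)) {x : G}
    (hx : orderOf x = p) (hconj : ∀ y : G, orderOf y = p → IsConj x y)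
    (hc : ∀ x y : G, orderOf x = p → orderOf y = p →
      Cfsg.IsPSolvable p ↥(Subgroup.closure ({x, y} : Set G))) :
    Nat.card {y : G // IsConj x y ∧ ¬ p ∣ orderOf (x * y)} * (p - 1) ≤
      Nat.card {y : G // IsConj x y} := by
  have hp : p.Prime := Fact.out
  have hord : ∀ y, IsConj x y → orderOf y = p := fun y h => by
    obtain ⟨c, rfl⟩ := isConj_iff.1 h
    rw [← hx]; exact MulEquiv.orderOf_eq (MulAut.conj c) x
  have hpw : ∀ (y : G) (j : (ZMod p)ˣ), orderOf y = p → orderOf (y ^ (j : ZMod p).val) = p := by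
    intro y j hy
    rw [Nat.Coprime.orderOf_pow, hy]
    rw [hy]
    exact hp.coprime_iff_not_dvd.2 fun hd => j.ne_zero (by
      rw [← ZMod.natCast_zmod_val (j : ZMod p), ZMod.natCast_eq_zero_iff]; exact hd)
  have hback : ∀ (y : G) (j : (ZMod p)ˣ), orderOf y = p →
      (y ^ (j : ZMod p).val) ^ ((j⁻¹ : (ZMod p)ˣ) : ZMod p).val = y := by
    intro y j hy
    conv_rhs => rw [← pow_one y]
    rw [← pow_mul, pow_eq_pow_iff_modEq, hy, ← ZMod.natCast_eq_natCast_iff]
    rw [Nat.cast_mul, ZMod.natCast_zmod_val, ZMod.natCast_zmod_val, Units.mul_inv, Nat.cast_one]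
  let f : {y : G // IsConj x y ∧ ¬ p ∣ orderOf (x * y)} × (ZMod p)ˣ → {y : G // IsConj x y} :=
    fun a => ⟨(a.1 : G) ^ (a.2 : ZMod p).val, hconj _ (hpw _ _ (hord _ a.1.2.1))⟩
  have hf : Function.Injective f := by
    rintro ⟨⟨y, hy, hyr⟩, j⟩ ⟨⟨y', hy', hyr'⟩, j'⟩ h
    have e : y ^ (j : ZMod p).val = y' ^ (j' : ZMod p).val := congrArg Subtype.val h
    set z := y ^ (j : ZMod p).val with hz
    have hzp : orderOf z = p := hpw _ _ (hord _ hy)
    have key := pow_eq_of_regular_products P hP (x := x) (y := z) ⟨1, by rw [hx, pow_one]⟩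
      ⟨1, by rw [hzp, pow_one]⟩ (hc x z hx hzp)
      (i := ((j⁻¹ : (ZMod p)ˣ) : ZMod p).val) (j := ((j'⁻¹ : (ZMod p)ˣ) : ZMod p).val)
      (by rw [hz, hback _ _ (hord _ hy)]; exact hyr)
      (by rw [e, hback _ _ (hord _ hy')]; exact hyr')
    have hyy : y = y' := by
      rw [← hback y j (hord _ hy), ← hz, key, e, hback _ _ (hord _ hy')]
    subst hyy
    refine Prod.ext rfl (Units.ext (ZMod.val_injective p ?_))
    have hm := pow_eq_pow_iff_modEq.1 e
    rw [hord _ hy] at hm
    exact Nat.ModEq.eq_of_lt_of_lt hm (ZMod.val_lt _) (ZMod.val_lt _)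
  have h := Nat.card_le_card_of_injective f hf
  rwa [Nat.card_prod, Nat.card_units, Nat.card_zmod] at h

theorem false_of_pairs (P : Sylow p G) (hP1 : (P : Subgroup G) ≠ ⊥)
    (hPe : Cfsg.IsElementaryAbelian p (P : Subgroup G))
    (hconj : ∀ x ∈ (P : Subgroup G), ∀ y ∈ (P : Subgroup G), x ≠ 1 → y ≠ 1 → ∃ g : G, g * x * g⁻¹ = y)
    (hb : ∀ x ∈ (P : Subgroup G), orderOf x = p →
      Cfsg.HasNormalPComplement p ↥(Subgroup.centralizer ({x} : Set G)))
    (hc : ∀ x y : G, orderOf x = p → orderOf y = p →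
      Cfsg.IsPSolvable p ↥(Subgroup.closure ({x, y} : Set G)))
    (hp2 : p ≠ 2) : False := by
  classical
  have hp : p.Prime := Fact.out
  obtain ⟨x, hxP, hx1⟩ := (Subgroup.ne_bot_iff_exists_ne_one.1 hP1).elim
    fun a ha => (⟨a.1, a.2, fun h => ha (Subtype.ext h)⟩ :
      ∃ x, x ∈ (P : Subgroup G) ∧ x ≠ 1)
  have hxp : orderOf x = p := orderOf_eq_prime (hPe.2 x hxP) hx1
  -- every element of order a power of `p`, other than `1`, is conjugate to `x`
  have hall : ∀ z : G, (∃ k : ℕ, orderOf z = p ^ k) → z ≠ 1 → IsConj x z := by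
    rintro z ⟨k, hk⟩ hz1
    obtain ⟨Q, hQ⟩ := (IsPGroup.of_card (p := p) (G := Subgroup.zpowers z) (n := k)
      (by rw [Nat.card_zpowers, hk])).exists_le_sylow
    obtain ⟨g, rfl⟩ := MulAction.exists_smul_eq G P Q
    have hz := hQ (Subgroup.mem_zpowers z)
    rw [Sylow.coe_subgroup_smul, Subgroup.mem_smul_pointwise_iff_exists] at hz
    obtain ⟨z', hz', rfl⟩ := hz
    have hz'1 : z' ≠ 1 := by rintro rfl; exact hz1 (smul_one _)
    obtain ⟨c, hcx⟩ := hconj x hxP z' hz' hx1 hz'1
    exact (isConj_iff.2 ⟨c, hcx⟩).trans (isConj_iff.2 ⟨g, rfl⟩)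
  have hT := regular_products_le P hPe.1 hxp
    (fun y hy => hall y ⟨1, by rw [hy, pow_one]⟩ (fun h => hp.ne_one (by rw [← hy, h, orderOf_one]))) hc
  set C := Subgroup.centralizer ({x} : Set G) with hCdef
  have hC : ∀ t : G, t ∈ C ↔ Commute t x := fun t => Subgroup.mem_centralizer_singleton_iff
  have hn := hb x hxP hxp
  have hxk : ∃ k : ℕ, orderOf x = p ^ k := ⟨1, by rw [hxp, pow_one]⟩
  have := Fintype.ofFinite G
  have := Fintype.ofFinite C
  have := Fintype.ofFinite (IrrCharacter G)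
  have := Fintype.ofFinite (IrrCharacter C)
  have := Fintype.ofFinite ↥(P : Subgroup G)
  obtain ⟨M, hM⟩ := exists_pModular hp
  have := hM.2.1
  set q := Nat.card (P : Subgroup G) with hq
  -- the order of the Sylow subgroup of the centralizer
  have hPC : (P : Subgroup G) ≤ C := fun w hw => (hC w).2
    (congrArg Subtype.val (hPe.1.1.1 ⟨w, hw⟩ ⟨x, hxP⟩))
  have hqC : p ^ (Nat.card C).factorization p = q := by
    refine Nat.dvd_antisymm ?_ ?_
    · rw [hq, P.card_eq_multiplicity]
      exact pow_dvd_pow p ((Nat.factorization_le_iff_dvd Nat.card_pos.ne' Nat.card_pos.ne').2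
        (Subgroup.card_subgroup_dvd_card C) p)
    · have h1 : q ∣ Nat.card C := Subgroup.card_dvd_of_le hPC
      obtain ⟨n, hn⟩ := P.2.exists_card_eq
      rw [hq, hn] at h1 ⊢
      exact pow_dvd_pow p ((hp.pow_dvd_iff_le_factorization Nat.card_pos.ne').1 h1)
  have hm := card_regular_mul (p := p) hn
  rw [hqC] at hm
  set m := (univ.filter fun c : C => ¬ p ∣ orderOf c).card with hmdef
  have hq3 : 3 ≤ q := by
    have h1 : p ∣ q := hxp ▸ (Subgroup.orderOf_mk x hxP ▸ orderOf_dvd_natCard (⟨x, hxP⟩ : P))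
    have := Nat.le_of_dvd Nat.card_pos h1
    have := hp.two_le
    omega
  -- integral values
  have hrep : ∀ θ : IrrCharacter G, ∃ (a : ℕ) (ψ : ℤ) (d : ℕ), (θ : G → ℂ) x = ψ ∧ (θ : G → ℂ) 1 = d ∧
      (d : ℤ) - ψ = (q : ℤ) * ((a : ℤ) - ψ) := by
    intro θ
    obtain ⟨d, hd⟩ := isCharacter_degree (isCharacter_irr θ)
    obtain ⟨a, ha⟩ := classInner_char_irr_nat
      (isCharacter_comp (isCharacter_irr θ) (P : Subgroup G).subtype) (oneChar (P : Subgroup G))
    have hval : ∀ w : (P : Subgroup G), w ≠ 1 → (θ : G → ℂ) w = (θ : G → ℂ) x := fun w hw => by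
      obtain ⟨c, hcw⟩ := hconj x hxP w w.2 hx1 (fun h => hw (Subtype.ext h))
      exact (classFun_isConj (isClassFunction_irr θ) (isConj_iff.2 ⟨c, hcw⟩)).symm
    have hsum : (d : ℂ) + ((q : ℂ) - 1) * (θ : G → ℂ) x = (q : ℂ) * a := by
      have h1 : ∑ w : (P : Subgroup G), (θ : G → ℂ) w = (q : ℂ) * a := by
        rw [← ha, classInner, ← mul_assoc, mul_inv_cancel₀ (Nat.cast_ne_zero.2 Nat.card_pos.ne'), one_mul]
        exact sum_congr rfl fun w _ => by simp [oneChar]
      rw [← h1, ← add_sum_erase _ _ (mem_univ (1 : (P : Subgroup G))), OneMemClass.coe_one, hd,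
        sum_congr rfl fun w hw => hval w (ne_of_mem_erase hw), sum_const, card_erase_of_mem (mem_univ _),
        card_univ, ← Nat.card_eq_fintype_card, nsmul_eq_mul, Nat.cast_sub (by omega), Nat.cast_one]
    have hq1 : ((q : ℂ) - 1) ≠ 0 := sub_ne_zero.2 (by exact_mod_cast (show q ≠ 1 by omega))
    have hrat : (θ : G → ℂ) x = ((((q : ℚ) * a - d) / ((q : ℚ) - 1) : ℚ) : ℂ) := by
      push_cast
      rw [eq_div_iff hq1, ← hsum]; ring
    have hint : IsIntegral ℤ (((q : ℚ) * a - d) / ((q : ℚ) - 1) : ℚ) := by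
      refine (isIntegral_algebraMap_iff (R := ℤ) (algebraMap ℚ ℂ).injective).1 ?_
      rw [eq_ratCast, ← hrat]
      exact isCharacter_isIntegral (isCharacter_irr θ) x
    obtain ⟨ψ, hψ⟩ := IsIntegrallyClosed.isIntegral_iff.1 hint
    have hψ' : (θ : G → ℂ) x = (ψ : ℂ) := by
      rw [hrat, ← hψ]; simp
    refine ⟨a, ψ, d, hψ', hd, ?_⟩
    rw [hψ'] at hsum
    have h2 : (d : ℤ) + ((q : ℤ) - 1) * ψ = (q : ℤ) * a := by exact_mod_cast hsum
    linarith
  choose a ψ d hψ hd hcong using hrep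
  set B := univ.filter (· ∈ principalBlock M G) with hB
  have h1B : oneChar G ∈ B := mem_filter.2 ⟨mem_univ _, one_mem_principalBlock⟩
  have hψ1 : ψ (oneChar G) = 1 := by
    have := hψ (oneChar G); simp only [oneChar] at this; exact_mod_cast this.symm
  have hd1 : d (oneChar G) = 1 := by
    have := hd (oneChar G); simp only [oneChar] at this; exact_mod_cast this.symm
  have hreg1 : ¬ p ∣ orderOf (1 : G) := by simp [hp.ne_one]
  -- column orthogonality
  have hsq : ∑ θ ∈ B, ψ θ ^ 2 = (q : ℤ) := by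
    have h := sum_principal_secFun (M := M) hM hxk hC (y := 1) (z := 1)
      (by simp [hp.ne_one]) (by simp [hp.ne_one])
    have := Fintype.ofFinite (ConjClasses C)
    have h2 : ∑ᶠ η ∈ principalBlock M C, (η : C → ℂ) 1 * conj ((η : C → ℂ) 1) = (q : ℂ) := by
      rw [← hqC, ← sum_sq_principal_of_complement hM hn,
        finsum_mem_eq_finite_toFinset_sum _ (Set.toFinite _)]
      exact Finset.sum_congr rfl fun η _ => by rw [conj_irr_one]
    rw [h2, finsum_mem_eq_toFinset_sum, OneMemClass.coe_one, mul_one] at h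
    have h3 : ∑ θ ∈ B, ((ψ θ : ℂ) ^ 2) = (q : ℂ) := by
      rw [← h]
      exact sum_congr (by ext; simp [hB]) fun θ _ => by rw [hψ, map_intCast, sq]
    exact_mod_cast h3
  have horth : ∑ θ ∈ B, (d θ : ℤ) * ψ θ = 0 := by
    have h := blockUnion_orthogonal_regular_singular hM
      (IsBlockUnion.of_isPBlock (isPBlock_principalBlock (M := M) (G := G))) hreg1
      (h := x) (by rw [hxp])
    rw [finsum_mem_eq_toFinset_sum] at h
    have h3 : ∑ θ ∈ B, ((d θ : ℂ) * (ψ θ : ℂ)) = 0 := by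
      rw [← h]
      exact sum_congr (by ext; simp [hB]) fun θ _ => by rw [hψ, hd, map_intCast]
    exact_mod_cast h3
  -- degrees in the block
  have hdeg : ∀ θ : IrrCharacter G, θ ≠ oneChar G → ψ θ + q ≤ (d θ : ℤ) := by
    intro θ hθ
    have hle : ψ θ ≤ (d θ : ℤ) := by
      have h := (Complex.re_le_norm ((θ : G → ℂ) x)).trans (norm_irr_le θ x)
      rw [hψ, hd, Complex.intCast_re, Complex.natCast_re] at h
      exact_mod_cast h
    have hne : ψ θ ≠ (d θ : ℤ) := fun h => hθ (AbelianFree.eq_one_of_value (t := x)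
      (fun K hK hxK => (Subgroup.Normal.eq_bot_or_eq_top hK).resolve_left fun h' =>
        hx1 (Subgroup.mem_bot.1 (h' ▸ hxK))) (by rw [hψ, hd, h]; norm_cast))
    have h1 := hcong θ
    have hpos : 1 ≤ (a θ : ℤ) - ψ θ := by
      by_contra hcon
      have := mul_nonpos_of_nonneg_of_nonpos (Int.natCast_nonneg q)
        (show (a θ : ℤ) - ψ θ ≤ 0 by omega)
      omega
    nlinarith
  -- the count
  have hG : (Nat.card G : ℂ) ≠ 0 := Nat.cast_ne_zero.2 Nat.card_pos.ne'
  set T := Nat.card {y : G // IsConj x y ∧ ¬ p ∣ orderOf (x * y)} with hTdef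
  have hTsum : (Nat.card C : ℂ) * T = ∑ h : G, if p ∣ orderOf (x * (h * x * h⁻¹)) then (0 : ℂ) else 1 := by
    rw [sum_ite, sum_const_zero, zero_add, sum_const, nsmul_eq_mul, mul_one, ← Nat.cast_mul]
    congr 1
    set S := univ.filter fun y => IsConj x y ∧ ¬ p ∣ orderOf (x * y) with hSdef
    have hTS : T = S.card := by
      rw [hTdef, Nat.card_eq_fintype_card, Fintype.card_subtype]
    rw [hTS]
    set H := univ.filter fun h : G => ¬ p ∣ orderOf (x * (h * x * h⁻¹))
    have hfib : ∀ y ∈ S, (H.filter fun h => h * x * h⁻¹ = y).card = Nat.card C := by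
      intro y hy
      obtain ⟨-, hy1, hy2⟩ := mem_filter.1 hy
      obtain ⟨h₀, rfl⟩ := isConj_iff.1 hy1
      rw [Nat.card_eq_fintype_card, ← card_univ]
      refine card_bij' (fun h hh => (⟨h₀⁻¹ * h, ?_⟩ : C)) (fun t _ => h₀ * t)
        (fun _ _ => mem_univ _) ?_ (fun h _ => by simp) (fun t _ => Subtype.ext (by simp))
      · have e := (mem_filter.1 hh).2
        refine (hC _).2 (show h₀⁻¹ * h * x = x * (h₀⁻¹ * h) from ?_)
        have h3 : h * x = h₀ * x * h₀⁻¹ * h := by rw [← e]; group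
        rw [mul_assoc, h3]; group
      · intro t _
        have ht : (t : G) * x = x * t := (hC t).1 t.2
        have e : h₀ * t * x * (h₀ * t)⁻¹ = h₀ * x * h₀⁻¹ := by
          rw [show h₀ * t * x * (h₀ * (t : G))⁻¹ = h₀ * ((t : G) * x * (t : G)⁻¹) * h₀⁻¹ by group, ht]
          group
        exact mem_filter.2 ⟨mem_filter.2 ⟨mem_univ _, by rw [e]; exact hy2⟩, e⟩
    rw [card_eq_sum_card_fiberwise (f := fun h => h * x * h⁻¹) (t := S) (fun h hh => mem_filter.2
      ⟨mem_univ _, isConj_iff.2 ⟨h, rfl⟩, (mem_filter.1 hh).2⟩), sum_congr rfl hfib, sum_const,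
      smul_eq_mul, mul_comm]
  have hmain : (Nat.card C : ℂ) * T =
      (Nat.card G : ℂ) * (1 - (q : ℂ)⁻¹ * ∑ θ ∈ B, (ψ θ : ℂ) ^ 3 / (d θ : ℂ)) := by
    rw [hTsum]
    set R : G → ℂ := fun g => if p ∣ orderOf g then 0 else 1 with hR
    have hRc : IsClassFunction G R := fun g h => by
      simp only [hR]
      rw [show orderOf (h * g * h⁻¹) = orderOf g from MulEquiv.orderOf_eq (MulAut.conj h) g]
    have hcoef : ∀ θ : IrrCharacter G, (Nat.card G : ℂ) * classInner R (θ : G → ℂ) =
        (Nat.card G : ℂ) * ((if θ = oneChar G then 1 else 0) -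
          (q : ℂ)⁻¹ * if θ ∈ B then (ψ θ : ℂ) else 0) := by
      intro θ
      have htot : ∑ g : G, conj ((θ : G → ℂ) g) = (Nat.card G : ℂ) * if θ = oneChar G then 1 else 0 := by
        have h := classInner_irr (oneChar G) θ
        rw [classInner] at h
        rw [show (if θ = oneChar G then (1 : ℂ) else 0) = if oneChar G = θ then 1 else 0 from
          if_congr eq_comm rfl rfl, ← h, ← mul_assoc, mul_inv_cancel₀ hG, one_mul]
        exact sum_congr rfl fun g _ => by simp [oneChar]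
      have hsing : (univ.filter fun g : G => ∃ z, IsPPart p g z ∧ IsConj x z) =
          univ.filter fun g : G => p ∣ orderOf g := by
        ext g
        simp only [mem_filter, mem_univ, true_and]
        constructor
        · rintro ⟨z, hz, hxz⟩
          by_contra hreg
          obtain rfl := isPPart_unique hp hz (isPPart_one_of_not_dvd hreg)
          exact hx1 (isConj_one_left.1 hxz)
        · intro hg
          obtain ⟨z, hz⟩ := exists_isPPart hp g
          have hz1 : z ≠ 1 := by rintro rfl; exact not_dvd_of_isPPart_one hz hg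
          exact ⟨z, hz, hall z (let ⟨_, _, _, h, _⟩ := hz; h) hz1⟩
      have hsec : ∑ c ∈ univ.filter (fun c : C => ¬ p ∣ orderOf c), (θ : G → ℂ) (x * c) =
          (m : ℂ) * if θ ∈ B then (ψ θ : ℂ) else 0 := by
        by_cases hθ : θ ∈ principalBlock M G
        · rw [if_pos (mem_filter.2 ⟨mem_univ _, hθ⟩), hmdef, ← nsmul_eq_mul, ← sum_const]
          exact sum_congr rfl fun c hc => by
            rw [principal_value_eq hM hxk hC hn hθ (mem_filter.1 hc).2, hψ]
        · rw [if_neg (fun h => hθ (mem_filter.1 h).2), mul_zero]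
          exact sum_section_eq_zero hM hxk hC hn hθ
      have hs := sum_section hp hxk hC (isClassFunction_irr θ)
      rw [hsing, hsec] at hs
      have hs' : (q : ℂ) * ∑ g ∈ univ.filter (fun g : G => p ∣ orderOf g), conj ((θ : G → ℂ) g) =
          (Nat.card G : ℂ) * if θ ∈ B then (ψ θ : ℂ) else 0 := by
        have h := congrArg conj hs
        rw [map_mul, map_mul, map_mul, map_sum, map_natCast, map_natCast, map_natCast,
          apply_ite conj, map_intCast, map_zero, ← hm, Nat.cast_mul] at h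
        have hm0 : (m : ℂ) ≠ 0 := Nat.cast_ne_zero.2 fun h0 => by
          rw [h0, zero_mul] at hm; exact Nat.card_pos.ne' hm.symm
        apply mul_left_cancel₀ hm0
        rw [← mul_assoc, h]; ring
      have hsplit : (Nat.card G : ℂ) * classInner R (θ : G → ℂ) =
          ∑ g : G, conj ((θ : G → ℂ) g) -
            ∑ g ∈ univ.filter (fun g : G => p ∣ orderOf g), conj ((θ : G → ℂ) g) := by
        rw [classInner, ← mul_assoc, mul_inv_cancel₀ hG, one_mul, sum_filter, ← sum_sub_distrib]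
        refine sum_congr rfl fun g _ => ?_
        simp only [hR]
        split_ifs <;> simp
      have hq0 : (q : ℂ) ≠ 0 := Nat.cast_ne_zero.2 (by omega)
      rw [hsplit, htot, mul_sub, ← mul_assoc, mul_comm (Nat.card G : ℂ) (q : ℂ)⁻¹, mul_assoc, ← hs',
        ← mul_assoc, inv_mul_cancel₀ hq0, one_mul]
    calc ∑ h : G, R (x * (h * x * h⁻¹))
        = ∑ h : G, ∑ θ : IrrCharacter G, classInner R (θ : G → ℂ) * (θ : G → ℂ) (x * (h * x * h⁻¹)) := by
          refine sum_congr rfl fun h _ => ?_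
          conv_lhs => rw [classFun_expand hRc]
          simp [Finset.sum_apply]
      _ = ∑ θ : IrrCharacter G, ((Nat.card G : ℂ) * classInner R (θ : G → ℂ)) *
            ((θ : G → ℂ) x ^ 2 / (θ : G → ℂ) 1) := by
          rw [sum_comm]
          refine sum_congr rfl fun θ _ => ?_
          rw [← mul_sum, sum_conj_char]; ring
      _ = _ := by
          simp only [hcoef, hψ, hd, mul_sub, sub_mul, mul_ite, ite_mul, mul_zero, zero_mul, sum_sub_distrib]
          rw [sum_ite_eq' univ (oneChar G), if_pos (mem_univ _), hψ1, hd1, ← sum_filter, mul_sum, mul_sum]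
          congr 1
          · simp
          · refine sum_congr (by ext; simp [hB]) fun θ _ => ?_
            ring
  -- to the reals
  have hreal : (Nat.card C : ℝ) * T =
      (Nat.card G : ℝ) * (1 - (q : ℝ)⁻¹ * ∑ θ ∈ B, (ψ θ : ℝ) ^ 3 / (d θ : ℝ)) := by
    apply Complex.ofReal_injective
    push_cast
    exact hmain
  have hNC : (Nat.card {y : G // IsConj x y} : ℝ) * Nat.card C = Nat.card G := by
    rw [← Nat.cast_mul, card_isConj, Subgroup.index_mul_card]
  have hT' : (T : ℝ) * ((p : ℝ) - 1) ≤ Nat.card {y : G // IsConj x y} := by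
    have h := (Nat.cast_le (α := ℝ)).2 hT
    rwa [Nat.cast_mul, Nat.cast_sub hp.one_le, Nat.cast_one] at h
  set S := ∑ θ ∈ B.erase (oneChar G), (ψ θ : ℝ) ^ 3 / (d θ : ℝ) with hS
  have hsplitS : ∑ θ ∈ B, (ψ θ : ℝ) ^ 3 / (d θ : ℝ) = 1 + S := by
    rw [hS, ← add_sum_erase _ _ h1B, hψ1, hd1]; simp
  have hsq' : ∑ θ ∈ B.erase (oneChar G), ψ θ ^ 2 = (q : ℤ) - 1 := by
    rw [← hsq, ← add_sum_erase _ _ h1B, hψ1]; ring
  obtain ⟨θ₀, hθ₀, hneg⟩ : ∃ θ ∈ B.erase (oneChar G), ψ θ < 0 := by
    by_contra hno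
    simp only [not_exists, not_and, not_lt] at hno
    have h := horth
    rw [← add_sum_erase _ _ h1B, hψ1, hd1] at h
    have : 0 ≤ ∑ θ ∈ B.erase (oneChar G), (d θ : ℤ) * ψ θ :=
      sum_nonneg fun θ hθ => mul_nonneg (Int.natCast_nonneg _) (hno θ hθ)
    norm_num at h
    omega
  have hbound : S ≤ ((q : ℝ) - 2) / 3 := by
    have hterm : ∀ θ ∈ B.erase (oneChar G),
        (ψ θ : ℝ) ^ 3 / (d θ : ℝ) ≤ (if 0 < ψ θ then ((ψ θ ^ 2 : ℤ) : ℝ) else 0) / 3 := by
      intro θ hθ
      split_ifs with h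
      · have h2 : 2 * ψ θ ≤ q := by
          have : ψ θ ^ 2 ≤ (q : ℤ) - 1 := hsq' ▸ single_le_sum (fun i _ => sq_nonneg (ψ i)) hθ
          nlinarith
        have h3 : (3 : ℝ) * (ψ θ : ℝ) ≤ (d θ : ℝ) := by
          have := hdeg θ (ne_of_mem_erase hθ)
          exact_mod_cast (show 3 * ψ θ ≤ (d θ : ℤ) by omega)
        have hpos : (0 : ℝ) < ψ θ := by exact_mod_cast h
        rw [div_le_div_iff₀ (by linarith) (by norm_num)]
        push_cast
        nlinarith [mul_le_mul_of_nonneg_left h3 (sq_nonneg (ψ θ : ℝ))]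
      · rw [zero_div]
        refine div_nonpos_of_nonpos_of_nonneg ?_ (Nat.cast_nonneg _)
        have hnp : (ψ θ : ℝ) ≤ 0 := by exact_mod_cast not_lt.1 h
        nlinarith [mul_nonpos_of_nonneg_of_nonpos (sq_nonneg (ψ θ : ℝ)) hnp]
    refine (sum_le_sum hterm).trans ?_
    rw [← sum_div]
    refine div_le_div_of_nonneg_right ?_ (by norm_num)
    have h4 : ∑ θ ∈ B.erase (oneChar G), (if 0 < ψ θ then ψ θ ^ 2 else 0) ≤ (q : ℤ) - 2 := by
      have h5 : ∑ θ ∈ B.erase (oneChar G), ((if 0 < ψ θ then ψ θ ^ 2 else 0) +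
          if θ = θ₀ then (1 : ℤ) else 0) ≤ ∑ θ ∈ B.erase (oneChar G), ψ θ ^ 2 := by
        refine sum_le_sum fun θ _ => ?_
        by_cases h : θ = θ₀
        · subst h
          rw [if_neg (by omega), if_pos rfl]
          nlinarith
        · rw [if_neg h, add_zero]
          split_ifs <;> nlinarith
      rw [sum_add_distrib, sum_ite_eq', if_pos hθ₀, hsq'] at h5
      linarith
    calc _ = ((∑ θ ∈ B.erase (oneChar G), (if 0 < ψ θ then ψ θ ^ 2 else 0) : ℤ) : ℝ) := by
          push_cast; rfl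
      _ ≤ _ := by exact_mod_cast h4
  have hqR : (3 : ℝ) ≤ q := by exact_mod_cast hq3
  have hpR : (3 : ℝ) ≤ p := by exact_mod_cast (show 3 ≤ p by have := hp.two_le; omega)
  have hGpos : (0 : ℝ) < Nat.card G := Nat.cast_pos.2 Nat.card_pos
  rw [hsplitS] at hreal
  have h6 : 2 * (1 - (q : ℝ)⁻¹ * (1 + S)) ≤ 1 := by
    have h7 : ((p : ℝ) - 1) * ((Nat.card C : ℝ) * T) ≤ Nat.card G := by
      rw [← hNC]; nlinarith [mul_le_mul_of_nonneg_left hT' (Nat.cast_nonneg (α := ℝ) (Nat.card C))]
    have h8 : (0 : ℝ) ≤ (Nat.card C : ℝ) * T := by positivity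
    rw [← mul_le_mul_iff_of_pos_left hGpos]
    nlinarith [mul_le_mul_of_nonneg_right (show (2 : ℝ) ≤ (p : ℝ) - 1 by linarith) h8]
  have hq0 : (0 : ℝ) < q := by linarith
  rw [inv_mul_eq_div] at h6
  have h9 : (q : ℝ) / 2 ≤ 1 + S := by
    rw [div_le_iff₀ (by norm_num)]
    have h10 : 1 ≤ 2 * ((1 + S) / q) := by linarith
    rw [← mul_div_assoc, le_div_iff₀ hq0] at h10
    linarith
  linarith

end CfsgLib.Block.PairSolvable
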