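import Cfsg.Agent.Lib.Block.PairSolvable.PrimeCyclic
import Cfsg.Agent.Lib.Block.PairSolvable.Elementary
import Cfsg.Agent.Lib.Block.FongSwan.Central
import Cfsg.Agent.Lib.Fusion.PrimeCoreQuotient
import Cfsg.Agent.Lib.Fusion.System.PSolvableModel

/-!
# Cyclic Sylow subgroups: `p`-solvability is decided by pairs of elements of order `p`
-/

set_option autoImplicit false
set_option linter.unusedSectionVars false

namespace CfsgLib.Block.PairSolvable

open Cfsg CfsgLib.Block.AbelianFree

universe u

variable {p : ℕ} [Fact p.Prime] {G : Type u} [Group G] [Finite G]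

theorem isPSolvable_of_coprime_card (h : (Nat.card G).Coprime p) : Cfsg.IsPSolvable p G := by
  refine ⟨1, ![⊥, ⊤], rfl, rfl, ?_, ?_, ?_⟩
  · exact Fin.monotone_iff_le_succ.2 fun i => by fin_cases i; exact bot_le
  · intro i
    fin_cases i
    · exact Subgroup.normal_bot
    · exact Subgroup.normal_top
  · intro i
    fin_cases i
    right
    simpa [Subgroup.relIndex_bot_left] using h

theorem isPSolvable_of_pGroup (h : IsPGroup p G) : Cfsg.IsPSolvable p G := by
  refine ⟨1, ![⊥, ⊤], rfl, rfl, ?_, ?_, ?_⟩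
  · exact Fin.monotone_iff_le_succ.2 fun i => by fin_cases i; exact bot_le
  · intro i
    fin_cases i
    · exact Subgroup.normal_bot
    · exact Subgroup.normal_top
  · intro i
    fin_cases i
    left
    simpa [Subgroup.relIndex_bot_left] using IsPGroup.iff_card.1 h

theorem isPSolvable_of_complement (h : Cfsg.HasNormalPComplement p G) : Cfsg.IsPSolvable p G := by
  obtain ⟨P, N, hN, hc⟩ := h
  haveI := hN
  refine CfsgLib.Block.FongSwan.isPSolvable_of_coprime_extension (QuotientGroup.mk' N)
    (QuotientGroup.mk'_surjective N) ?_ (isPSolvable_of_pGroup ?_)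
  · rw [QuotientGroup.ker_mk', ← hc.index_eq_card]
    exact ((Fact.out : p.Prime).coprime_iff_not_dvd.2 P.not_dvd_index).symm
  · obtain ⟨n, hn⟩ := P.2.exists_card_eq
    exact IsPGroup.of_card (n := n) (by rw [← Subgroup.index_eq_card, hc.symm.index_eq_card, hn])

/-- A cyclic Sylow subgroup meeting the centre has a normal complement. -/
theorem hasNormalPComplement_of_central (P : Sylow p G) (hP : IsCyclic ↥(P : Subgroup G)) {x : G}
    (hxP : x ∈ (P : Subgroup G)) (hx1 : x ≠ 1) (hc : ∀ g : G, g * x = x * g) :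
    Cfsg.HasNormalPComplement p G := by
  have := Fintype.ofFinite G
  refine CfsgLib.Fusion.hasNormalPComplement_of_normalizer_le_centralizer P ?_
  intro n hn
  have h := (free_of_cyclic hP).frob x hxP hx1
  exact h.le (Subgroup.mem_inf.2 ⟨Subgroup.mem_centralizer_singleton_iff.2 (hc n), hn⟩)

theorem cyclic_sylow_of_injective {H : Type u} [Group H] [Finite H] (f : H →* G)
    (hf : Function.Injective f) (P : Sylow p G) (hP : IsCyclic ↥(P : Subgroup G)) (S : Sylow p H) :
    IsCyclic ↥(S : Subgroup H) := by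
  obtain ⟨Q, hQ⟩ := (S.2.map f).exists_le_sylow
  have hQc : IsCyclic ↥(Q : Subgroup G) := (MulEquiv.isCyclic (Sylow.equiv P Q)).1 hP
  exact isCyclic_of_injective ((f.comp (S : Subgroup H).subtype).codRestrict (Q : Subgroup G)
    fun s => hQ (Subgroup.mem_map_of_mem f s.2)) (fun a b e => Subtype.ext (hf (congrArg Subtype.val e)))

theorem isPSolvable_of_pairs_aux (n : ℕ) : ∀ (G : Type u) [Group G] [Finite G], Nat.card G ≤ n →
    ∀ P : Sylow p G, IsCyclic ↥(P : Subgroup G) →
    (∀ x y : G, orderOf x = p → orderOf y = p →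
      Cfsg.IsPSolvable p ↥(Subgroup.closure ({x, y} : Set G))) → Cfsg.IsPSolvable p G := by
  classical
  have hp : p.Prime := Fact.out
  induction n with
  | zero => intro G _ _ hn; exact absurd hn (by have := Nat.card_pos (α := G); omega)
  | succ n ih =>
  intro G _ _ hn P hP hc
  by_cases hdvd : p ∣ Nat.card G
  swap
  · exact isPSolvable_of_coprime_card (hp.coprime_iff_not_dvd.2 hdvd).symm
  by_cases hK : Cfsg.pPrimeCore p G = ⊥
  swap
  · set K := Cfsg.pPrimeCore p G
    set π := QuotientGroup.mk' K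
    have hπ := QuotientGroup.mk'_surjective K
    have hKp : ¬ p ∣ Nat.card K := CfsgLib.Coprime.pPrimeCore_not_dvd hp
    refine CfsgLib.Block.FongSwan.isPSolvable_of_coprime_extension π hπ
      (by rw [QuotientGroup.ker_mk']; exact (hp.coprime_iff_not_dvd.2 hKp).symm) ?_
    have hlt : Nat.card (G ⧸ K) ≤ n := by
      have h1 := Subgroup.card_eq_card_quotient_mul_card_subgroup K
      have h2 : 2 ≤ Nat.card K := Subgroup.one_lt_card_iff_ne_bot _ |>.2 hK
      have h3 := Nat.card_pos (α := G ⧸ K)
      nlinarith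
    refine ih _ hlt (P.mapSurjective hπ) ?_ ?_
    · rw [Sylow.coe_mapSurjective]
      exact isCyclic_of_surjective _ (MonoidHom.subgroupMap_surjective π (P : Subgroup G))
    · intro a b ha hb
      have lift : ∀ a : G ⧸ K, orderOf a = p → ∃ a', orderOf a' = p ∧ π a' = a := by
        intro a ha
        obtain ⟨V, hV, hVmap⟩ := CfsgLib.Fusion.exists_pGroup_map_eq (p := p) π (Subgroup.zpowers a)
          (IsPGroup.of_card (n := 1) (by rw [Nat.card_zpowers, ha, pow_one]))
          (by rw [MonoidHom.range_eq_top.2 hπ]; exact le_top)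
        obtain ⟨a', ha', e⟩ := hVmap.ge (Subgroup.mem_zpowers a)
        refine ⟨a', ?_, e⟩
        have hz : (⟨a', ha'⟩ : V) ^ p = 1 := by
          obtain ⟨k, hk⟩ := hV (⟨a', ha'⟩ ^ p)
          refine orderOf_eq_one_iff.1 (Nat.eq_one_of_dvd_coprimes
            ((hp.coprime_iff_not_dvd.2 hKp).pow_left k) (orderOf_dvd_of_pow_eq_one hk) ?_)
          have hmem : ((⟨a', ha'⟩ : V) ^ p : V).1 ∈ K := by
            rw [← QuotientGroup.eq_one_iff]
            show π ((a' : G) ^ p) = 1
            rw [map_pow, e]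
            exact (congrArg (a ^ ·) ha.symm).trans (pow_orderOf_eq_one a)
          rw [← Subgroup.orderOf_coe]
          exact Subgroup.orderOf_mk (H := K) _ hmem ▸ orderOf_dvd_natCard _
        refine orderOf_eq_prime (by simpa using congrArg Subtype.val hz) ?_
        rintro rfl
        rw [map_one] at e
        rw [← e, orderOf_one] at ha
        exact hp.ne_one ha.symm
      obtain ⟨a', ha', rfl⟩ := lift a ha
      obtain ⟨b', hb', rfl⟩ := lift b hb
      have hmap : (Subgroup.closure ({a', b'} : Set G)).map π = Subgroup.closure ({π a', π b'} : Set (G ⧸ K)) := by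
        rw [MonoidHom.map_closure, Set.image_pair]
      rw [← hmap]
      exact CfsgLib.Fusion.isPSolvable_of_surjective _
        (MonoidHom.subgroupMap_surjective π _) (hc a' b' ha' hb')
  by_cases hO : Cfsg.pCore p G = ⊥
  swap
  · set O := Cfsg.pCore p G
    have hOp := CfsgLib.Coprime.pCore_isPGroup (G := G) p
    haveI := CfsgLib.Coprime.pCore_normal' (G := G) p
    haveI : Nontrivial O := (Subgroup.nontrivial_iff_ne_bot _).2 hO
    obtain ⟨x, hx⟩ := exists_prime_orderOf_dvd_card' p (show p ∣ Nat.card O by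
      obtain ⟨k, hk0, hk⟩ := hOp.nontrivial_iff_card.1 inferInstance
      exact hk ▸ dvd_pow_self p hk0.ne')
    have hOP : O ≤ (P : Subgroup G) := by
      obtain ⟨S, hS⟩ := hOp.exists_le_sylow
      obtain ⟨g, rfl⟩ := MulAction.exists_smul_eq G S P
      intro o ho
      rw [Sylow.coe_subgroup_smul, Subgroup.mem_smul_pointwise_iff_exists]
      exact ⟨g⁻¹ * o * g, hS (by simpa using (CfsgLib.Coprime.pCore_normal' p).conj_mem o ho g⁻¹),
        by simp [mul_assoc]⟩
    set w : G := (x : G) with hw
    have hwp : orderOf w = p := by rw [hw, Subgroup.orderOf_coe, hx]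
    have hw1 : w ≠ 1 := fun e => hp.ne_one (by rw [← hwp, e, orderOf_one])
    have hfix : ∀ g : G, ∃ k : ℕ, g * w * g⁻¹ = w ^ k := by
      intro g
      have hy : g * w * g⁻¹ ∈ (P : Subgroup G) :=
        hOP ((CfsgLib.Coprime.pCore_normal' p).conj_mem w x.2 g)
      have hyp : orderOf (g * w * g⁻¹) = p := (MulEquiv.orderOf_eq (MulAut.conj g) w).trans hwp
      haveI : IsCyclic ↥(P : Subgroup G) := hP
      set a : ↥(P : Subgroup G) := ⟨w, hOP x.2⟩
      set b : ↥(P : Subgroup G) := ⟨_, hy⟩
      have := Fintype.ofFinite ↥(P : Subgroup G)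
      have hb : b ∈ Subgroup.zpowers a := by
        have ha : orderOf a = p := by rw [← Subgroup.orderOf_coe]; exact hwp
        have hbp : b ^ p = 1 := Subtype.ext (by simpa [b, hyp] using pow_orderOf_eq_one (g * w * g⁻¹))
        set T := Finset.univ.filter (· ∈ Subgroup.zpowers a) with hT
        have hsub : T ⊆ Finset.univ.filter (fun z => z ^ p = 1) := fun z hz => by
          obtain ⟨i, rfl⟩ := Subgroup.mem_zpowers_iff.1 (Finset.mem_filter.1 hz).2
          refine Finset.mem_filter.2 ⟨Finset.mem_univ _, ?_⟩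
          have hap : a ^ p = 1 := orderOf_dvd_iff_pow_eq_one.1 (dvd_of_eq ha)
          rw [← zpow_natCast, ← zpow_mul, mul_comm, zpow_mul, zpow_natCast, hap, one_zpow]
        have hle : (Finset.univ.filter fun z : ↥(P : Subgroup G) => z ^ p = 1).card ≤ p :=
          IsCyclic.card_pow_eq_one_le hp.pos
        have hTc : T.card = p := by
          rw [hT, ← Fintype.card_subtype, ← Nat.card_eq_fintype_card]
          exact (Nat.card_zpowers a).trans ha
        exact (Finset.mem_filter.1 ((Finset.eq_of_subset_of_card_le hsub (hle.trans hTc.ge)).symm ▸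
          Finset.mem_filter.2 ⟨Finset.mem_univ b, hbp⟩ : b ∈ T)).2
      obtain ⟨k, hk⟩ := mem_powers_iff_mem_zpowers.2 hb
      exact ⟨k, by simpa [a, b] using (congrArg Subtype.val hk).symm⟩
    set C := Subgroup.centralizer ({w} : Set G) with hC
    haveI hCn : C.Normal := by
      refine ⟨fun c hc g => Subgroup.mem_centralizer_singleton_iff.2 ?_⟩
      obtain ⟨k, hk⟩ := hfix g⁻¹
      have h1 : c * (g⁻¹ * w * g⁻¹⁻¹) = g⁻¹ * w * g⁻¹⁻¹ * c := by
        rw [hk]; exact (Commute.pow_right (Subgroup.mem_centralizer_singleton_iff.1 hc) k).eq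
      calc g * c * g⁻¹ * w = g * (c * (g⁻¹ * w * g⁻¹⁻¹)) * g⁻¹ := by group
        _ = g * (g⁻¹ * w * g⁻¹⁻¹ * c) * g⁻¹ := by rw [h1]
        _ = w * (g * c * g⁻¹) := by group
    have hPC : (P : Subgroup G) ≤ C := fun v hv => Subgroup.mem_centralizer_singleton_iff.2 (by
      haveI : IsCyclic ↥(P : Subgroup G) := hP
      obtain ⟨g₀, hg₀⟩ := IsCyclic.exists_generator (α := ↥(P : Subgroup G))
      obtain ⟨i, hi⟩ := Subgroup.mem_zpowers_iff.1 (hg₀ ⟨v, hv⟩)
      obtain ⟨j, hj⟩ := Subgroup.mem_zpowers_iff.1 (hg₀ ⟨w, hOP x.2⟩)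
      have e : (⟨v, hv⟩ : ↥(P : Subgroup G)) * ⟨w, hOP x.2⟩ = ⟨w, hOP x.2⟩ * ⟨v, hv⟩ := by
        rw [← hi, ← hj, ← zpow_add, ← zpow_add, add_comm]
      exact congrArg Subtype.val e)
    have hcompl : Cfsg.HasNormalPComplement p C := by
      refine hasNormalPComplement_of_central (P.subtype hPC)
        (cyclic_sylow_of_injective C.subtype C.subtype_injective P hP _) (x := ⟨w, hPC (hOP x.2)⟩)
        (by rw [Sylow.coe_subtype, Subgroup.mem_subgroupOf]; exact hOP x.2)
        (fun e => hw1 (congrArg Subtype.val e))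
        (fun g => Subtype.ext (Subgroup.mem_centralizer_singleton_iff.1 g.2))
    obtain ⟨S, N, hN, hcN⟩ := hcompl
    haveI := hN
    have hNp : (Nat.card N).Coprime p := by
      rw [← hcN.index_eq_card]; exact (hp.coprime_iff_not_dvd.2 S.not_dvd_index).symm
    have hN1 : N = ⊥ := by
      have h1 := CfsgLib.Coprime.le_pPrimeCore hNp
      have h2 := CfsgLib.Coprime.pPrimeCore_map_subtype_eq hp C
      rw [hK, bot_inf_eq, Subgroup.map_eq_bot_iff_of_injective _ C.subtype_injective] at h2
      exact le_bot_iff.1 (h2 ▸ h1)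
    have hCp : IsPGroup p C := by
      obtain ⟨k, hk⟩ := S.2.exists_card_eq
      refine IsPGroup.of_card (n := k) ?_
      rw [← hk, ← hcN.card_mul_card, hN1, Subgroup.card_bot, one_mul]
    refine CfsgLib.Fusion.isPSolvable_of_pGroup_extension C hCp (isPSolvable_of_coprime_card ?_)
    rw [← Subgroup.index_eq_card]
    refine (hp.coprime_iff_not_dvd.2 fun h => P.not_dvd_index (h.trans ?_)).symm
    exact Subgroup.index_dvd_of_le hPC
  -- every nontrivial proper normal subgroup would give a core
  haveI : Nontrivial G := Finite.one_lt_card_iff_nontrivial.1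
    (lt_of_lt_of_le hp.one_lt (Nat.le_of_dvd Nat.card_pos hdvd))
  haveI hs : IsSimpleGroup G := ⟨fun N hN => by
    by_contra hne
    simp only [not_or] at hne
    have hlt : Nat.card N ≤ n := by
      have h1 : Nat.card N < Nat.card G :=
        lt_of_le_of_ne (Subgroup.card_le_card_group N) fun e => hne.2 (Subgroup.eq_top_of_card_eq N e)
      omega
    obtain ⟨S⟩ : Nonempty (Sylow p N) := inferInstance
    have hNs : Cfsg.IsPSolvable p N := ih N hlt S
      (cyclic_sylow_of_injective N.subtype N.subtype_injective P hP S) (fun a b ha hb => by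
        have h := hc a b (by rw [Subgroup.orderOf_coe, ha]) (by rw [Subgroup.orderOf_coe, hb])
        have e : (Subgroup.closure ({a, b} : Set N)).map N.subtype =
            Subgroup.closure ({(a : G), (b : G)} : Set G) := by
          rw [MonoidHom.map_closure, Set.image_pair]; rfl
        rw [← e] at h
        exact CfsgLib.Fusion.isPSolvable_of_injective
          ((Subgroup.closure ({a, b} : Set N)).equivMapOfInjective N.subtype N.subtype_injective).toMonoidHom
          (MulEquiv.injective _) h)
    haveI : Nontrivial N := (Subgroup.nontrivial_iff_ne_bot _).2 hne.1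
    rcases CfsgLib.PGroup.pCore_ne_bot_or_pPrimeCore_ne_bot hNs with h | h
    · apply h
      have h2 := CfsgLib.Coprime.pCore_map_subtype_eq p N
      rwa [hO, bot_inf_eq, Subgroup.map_eq_bot_iff_of_injective _ N.subtype_injective] at h2
    · apply h
      have h2 := CfsgLib.Coprime.pPrimeCore_map_subtype_eq hp N
      rwa [hK, bot_inf_eq, Subgroup.map_eq_bot_iff_of_injective _ N.subtype_injective] at h2⟩
  have := Fintype.ofFinite G
  have := Fintype.ofFinite (IrrCharacter G)
  have := Fintype.ofFinite ↥(P : Subgroup G)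
  have := Fintype.ofFinite (Lin P)
  have h := free_of_cyclic hP
  by_cases he : 2 ≤ (cen P).relIndex (nor P)
  swap
  · refine isPSolvable_of_complement
      (CfsgLib.Fusion.hasNormalPComplement_of_normalizer_le_centralizer P ?_)
    have hne : ((cen P).subgroupOf (nor P)).index ≠ 0 := Subgroup.index_ne_zero_of_finite
    have hne' : (cen P).relIndex (nor P) ≠ 0 := hne
    have h1 : (cen P).relIndex (nor P) = 1 := by omega
    exact Subgroup.relIndex_eq_one.1 h1
  exfalso
  rcases Nat.lt_or_ge p (Nat.card (P : Subgroup G)) with hbig | hsmall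
  · exact false_of_large_cyclic hP hbig he hc
  have hcard : Nat.card (P : Subgroup G) = p := by
    obtain ⟨k, hk⟩ := P.2.exists_card_eq
    rcases Nat.eq_zero_or_pos k with rfl | hk0
    · exact absurd (hk.trans (pow_zero p)) (fun h1 => hdvd.elim fun c hc' => by
        exact P.not_dvd_index (by
          rw [← mul_one (P : Subgroup G).index, ← h1, Subgroup.index_mul_card]; exact ⟨c, hc'⟩))
    · exact le_antisymm hsmall (hk ▸ Nat.le_self_pow hk0.ne' p)
  have hP1 : (P : Subgroup G) ≠ ⊥ := fun e => by
    rw [Subgroup.card_eq_one.2 e] at hcard; exact hp.ne_one hcard.symm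
  obtain ⟨x, hxP, hxp, hle, hone⟩ := relIndex_le hP h hP1
  by_cases he' : (cen P).relIndex (nor P) + 1 < p
  · exact false_of_prime_cyclic hcard he he' hc
  have hall : ∀ y ∈ (P : Subgroup G), y ≠ 1 → orderOf y = p := fun y hy hy1 => by
    refine ((Nat.dvd_prime hp).1 ?_).resolve_left fun e => hy1 (orderOf_eq_one_iff.1 e)
    have := orderOf_dvd_natCard (⟨y, hy⟩ : (P : Subgroup G))
    rwa [Subgroup.orderOf_mk, hcard] at this
  refine false_of_pairs P hP1 ⟨h.comm, fun y hy => ?_⟩ (fun a ha b hb ha1 hb1 => ?_)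
    (fun y hy hy' => h.hasNormalPComplement hy (fun e => hp.ne_one (by rw [← hy', e, orderOf_one]))) hc
    (fun h2 => by omega)
  · by_cases hy1 : y = 1
    · rw [hy1, one_pow]
    · rw [← hall y hy hy1, pow_orderOf_eq_one]
  · exact isConj_iff.1 (((hone (by omega)) a ha (hall a ha ha1)).symm.trans
      ((hone (by omega)) b hb (hall b hb hb1)))

theorem isPSolvable_iff_pairs (P : Sylow p G) (hP : IsCyclic ↥(P : Subgroup G)) :
    Cfsg.IsPSolvable p G ↔ ∀ x y : G, orderOf x = p → orderOf y = p →
      Cfsg.IsPSolvable p ↥(Subgroup.closure ({x, y} : Set G)) :=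
  ⟨fun h x y _ _ => CfsgLib.Fusion.isPSolvable_of_injective (Subgroup.closure ({x, y} : Set G)).subtype
      (Subgroup.subtype_injective _) h,
    fun h => isPSolvable_of_pairs_aux (Nat.card G) G le_rfl P hP h⟩

end CfsgLib.Block.PairSolvable
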