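import Cfsg.Agent.Lib.Block.Rank
import Cfsg.Agent.Lib.Block.SubsectionCount
import Cfsg.Agent.Lib.Block.Cyclic.PrincipalSq
import Cfsg.Agent.Lib.Block.PSolvableOne
import Cfsg.Agent.Lib.Fusion.Transfer
import Cfsg.Agent.Lib.Fusion.StableFree
import Cfsg.Agent.Lib.PGroup.PSolvable
import Cfsg.Agent.Lib.Coprime.Core
import Cfsg.Agent.Lib.Char.Orthogonality

/-!
# Pairs of `p`-elements generating `p`-solvable subgroups: the local and character-theoretic facts

With an abelian Sylow subgroup two elements of order `p` generating a `p`-solvable subgroup have at most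
one `p`-regular product `x * y ^ i`.  On the other side the characters are known on `p`-sections whose
centralizers have normal `p`-complements.
-/

set_option autoImplicit false
set_option linter.unusedSectionVars false

open Finset
open scoped ComplexConjugate

namespace CfsgLib.Block.PairSolvable

open Cfsg CfsgLib.Char CfsgLib.Block

universe u

section pair

variable {G : Type u} [Group G] [Finite G] {p : ℕ} [Fact p.Prime]

/-- With abelian Sylow subgroups a `p`-solvable group with trivial `p'`-core generated by `p`-elements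
is a `p`-group. -/
theorem isPGroup_of_generated {H : Type u} [Group H] [Finite H] (hs : Cfsg.IsPSolvable p H)
    (hO : Cfsg.pPrimeCore p H = ⊥)
    (hab : ∀ S : Sylow p H, ∀ a ∈ (S : Subgroup H), ∀ b ∈ (S : Subgroup H), a * b = b * a)
    {T : Set H} (hT : Subgroup.closure T = ⊤) (hp : ∀ t ∈ T, ∃ k : ℕ, orderOf t = p ^ k) :
    IsPGroup p H := by
  have hO' := CfsgLib.Coprime.pCore_isPGroup (G := H) p
  haveI : (Cfsg.pCore p H).Normal := CfsgLib.Coprime.pCore_normal' p
  have key : ∀ S : Sylow p H, (S : Subgroup H) ≤ Cfsg.pCore p H := fun S s hs' => by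
    obtain ⟨S₀, hS₀⟩ := hO'.exists_le_sylow
    obtain ⟨g, rfl⟩ := MulAction.exists_smul_eq H S₀ S
    have hle : Cfsg.pCore p H ≤ ((g • S₀ : Sylow p H) : Subgroup H) := fun o ho => by
      rw [Sylow.coe_subgroup_smul, Subgroup.mem_smul_pointwise_iff_exists]
      refine ⟨g⁻¹ * o * g, hS₀ ?_, by simp [mul_assoc]⟩
      simpa using (CfsgLib.Coprime.pCore_normal' p).conj_mem o ho g⁻¹
    exact centralizer_pCore_le_of_isPSolvable hs hO
      (Subgroup.mem_centralizer_iff.2 fun o ho => hab _ o (hle ho) s hs')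
  have htop : Cfsg.pCore p H = ⊤ := by
    refine top_le_iff.1 (hT ▸ (Subgroup.closure_le _).2 fun t ht => ?_)
    obtain ⟨k, hk⟩ := hp t ht
    obtain ⟨S, hS⟩ := (IsPGroup.of_card (p := p) (G := Subgroup.zpowers t) (n := k)
      (by rw [Nat.card_zpowers, hk])).exists_le_sylow
    exact key S (hS (Subgroup.mem_zpowers t))
  rw [htop] at hO'
  exact hO'.of_equiv Subgroup.topEquiv

theorem abelian_sylow_of_injective {H : Type u} [Group H] [Finite H] (f : H →* G)
    (hf : Function.Injective f) (P : Sylow p G) (hP : IsMulCommutative (P : Subgroup G))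
    (S : Sylow p H) : ∀ a ∈ (S : Subgroup H), ∀ b ∈ (S : Subgroup H), a * b = b * a := by
  obtain ⟨Q, hQ⟩ := (S.2.map f).exists_le_sylow
  obtain ⟨g, rfl⟩ := MulAction.exists_smul_eq G P Q
  intro a ha b hb
  apply hf
  rw [map_mul, map_mul]
  have hm : ∀ c ∈ (S : Subgroup H), ∃ c' ∈ (P : Subgroup G), g * c' * g⁻¹ = f c := fun c hc => by
    have := hQ (Subgroup.mem_map_of_mem f hc)
    rw [Sylow.coe_subgroup_smul, Subgroup.mem_smul_pointwise_iff_exists] at this
    obtain ⟨c', hc', e⟩ := this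
    exact ⟨c', hc', by rw [← e]; rfl⟩
  obtain ⟨a', ha', ea⟩ := hm a ha
  obtain ⟨b', hb', eb⟩ := hm b hb
  have hc : a' * b' = b' * a' := congrArg Subtype.val (hP.1.1 ⟨a', ha'⟩ ⟨b', hb'⟩)
  rw [← ea, ← eb, show g * a' * g⁻¹ * (g * b' * g⁻¹) = g * (a' * b') * g⁻¹ by group, hc]
  group

theorem abelian_sylow_quotient (P : Sylow p G) (hP : IsMulCommutative (P : Subgroup G)) (H : Subgroup G)
    (K : Subgroup H) [K.Normal] :
    ∀ S : Sylow p (H ⧸ K), ∀ a ∈ (S : Subgroup (H ⧸ K)), ∀ b ∈ (S : Subgroup (H ⧸ K)),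
      a * b = b * a := by
  intro S
  have hπ := QuotientGroup.mk'_surjective K
  obtain ⟨S₀⟩ : Nonempty (Sylow p H) := inferInstance
  have habH := abelian_sylow_of_injective H.subtype H.subtype_injective P hP S₀
  obtain ⟨g, hg⟩ := MulAction.exists_smul_eq (H ⧸ K) (S₀.mapSurjective hπ) S
  subst hg
  intro a ha b hb
  rw [Sylow.coe_subgroup_smul, Subgroup.mem_smul_pointwise_iff_exists] at ha hb
  obtain ⟨a', ha', rfl⟩ := ha
  obtain ⟨b', hb', rfl⟩ := hb
  rw [Sylow.coe_mapSurjective] at ha' hb'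
  obtain ⟨a'', ha'', rfl⟩ := ha'
  obtain ⟨b'', hb'', rfl⟩ := hb'
  rw [← smul_mul', ← smul_mul', ← map_mul, ← map_mul, habH a'' ha'' b'' hb'']

/-- At most one product `x * y ^ i` is `p`-regular. -/
theorem pow_eq_of_regular_products (P : Sylow p G) (hP : IsMulCommutative (P : Subgroup G)) {x y : G}
    (hx : ∃ k : ℕ, orderOf x = p ^ k) (hy : ∃ k : ℕ, orderOf y = p ^ k)
    (hs : Cfsg.IsPSolvable p ↥(Subgroup.closure ({x, y} : Set G))) {i j : ℕ}
    (hi : ¬ p ∣ orderOf (x * y ^ i)) (hj : ¬ p ∣ orderOf (x * y ^ j)) : y ^ i = y ^ j := by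
  have hp : p.Prime := Fact.out
  set H := Subgroup.closure ({x, y} : Set G) with hH
  set K := Cfsg.pPrimeCore p H with hK
  set π := QuotientGroup.mk' K
  have hπ := QuotientGroup.mk'_surjective K
  set X : H := ⟨x, Subgroup.subset_closure (by simp)⟩
  set Y : H := ⟨y, Subgroup.subset_closure (by simp)⟩
  have habQ := abelian_sylow_quotient P hP H K
  have hpow : ∀ c : H, (∃ k : ℕ, orderOf (c : G) = p ^ k) → ∃ k : ℕ, orderOf (π c) = p ^ k := by
    rintro c ⟨k, hk⟩
    obtain ⟨l, -, hl⟩ := (Nat.dvd_prime_pow hp).1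
      (hk ▸ Subgroup.orderOf_coe c ▸ orderOf_map_dvd π c)
    exact ⟨l, hl⟩
  have hgen : Subgroup.closure (π '' {X, Y}) = (⊤ : Subgroup (H ⧸ K)) := by
    rw [← MonoidHom.map_closure]
    have : Subgroup.closure ({X, Y} : Set H) = ⊤ := by
      refine top_le_iff.1 fun c _ => ?_
      have hle : H ≤ (Subgroup.closure ({X, Y} : Set H)).map H.subtype := by
        rw [MonoidHom.map_closure, Set.image_pair]
        exact le_of_eq hH
      obtain ⟨c', hc', e⟩ := hle c.2
      exact Subtype.ext e ▸ hc'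
    rw [this, Subgroup.map_top_of_surjective _ hπ]
  have hPG : IsPGroup p (H ⧸ K) := isPGroup_of_generated
    (CfsgLib.PGroup.isPSolvable_quotient hp hs K)
    (CfsgLib.Coprime.pPrimeCore_quotient_eq_bot hp) habQ hgen (by
      rintro _ ⟨c, hc, rfl⟩
      rcases hc with rfl | rfl
      · exact hpow _ hx
      · exact hpow _ hy)
  have h1 : ∀ n : ℕ, ¬ p ∣ orderOf (x * y ^ n) → π X * π Y ^ n = 1 := by
    intro n hn
    rw [← map_pow, ← map_mul]
    obtain ⟨k, hk⟩ := hPG (π (X * Y ^ n))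
    obtain ⟨l, -, hl⟩ := (Nat.dvd_prime_pow hp).1 (orderOf_dvd_of_pow_eq_one hk)
    have hd : orderOf (π (X * Y ^ n)) ∣ orderOf (x * y ^ n) := by
      refine (orderOf_map_dvd π _).trans ?_
      rw [← Subgroup.orderOf_coe]
      simp [X, Y]
    rcases Nat.eq_zero_or_pos l with hl0 | hl0
    · rw [← orderOf_eq_one_iff, hl, hl0, pow_zero]
    · exact absurd (((dvd_pow_self p hl0.ne').trans (dvd_of_eq hl.symm)).trans hd) hn
  have heq : π (Y ^ i) = π (Y ^ j) := by
    rw [map_pow, map_pow]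
    exact mul_left_cancel ((h1 i hi).trans (h1 j hj).symm)
  have hmem : (Y ^ i)⁻¹ * Y ^ j ∈ K := QuotientGroup.eq.1 heq
  set z : K := ⟨_, hmem⟩
  obtain ⟨k, hk⟩ := hy
  have hz : z ^ p ^ k = 1 := by
    refine Subtype.ext (Subtype.ext ?_)
    have hc : Commute (y ^ i)⁻¹ (y ^ j) := ((Commute.refl y).pow_pow i j).inv_left
    simp only [z, Y, SubmonoidClass.coe_pow, Subgroup.coe_mul, Subgroup.coe_inv, OneMemClass.coe_one]
    rw [hc.mul_pow, inv_pow, ← pow_mul, ← pow_mul, mul_comm i, mul_comm j, pow_mul, pow_mul, ← hk,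
      pow_orderOf_eq_one]
    simp
  have h2 : orderOf z = 1 := by
    obtain ⟨l, -, hl⟩ := (Nat.dvd_prime_pow hp).1 (orderOf_dvd_of_pow_eq_one hz)
    rcases Nat.eq_zero_or_pos l with hl0 | hl0
    · rw [hl, hl0, pow_zero]
    · exact absurd (((dvd_pow_self p hl0.ne').trans (dvd_of_eq hl.symm)).trans
        (orderOf_dvd_natCard z)) (CfsgLib.Coprime.pPrimeCore_not_dvd hp)
  have h3 := congrArg (fun c : K => ((c : H) : G)) (orderOf_eq_one_iff.1 h2)
  simp only [z, Y, SubmonoidClass.coe_pow, Subgroup.coe_mul, Subgroup.coe_inv, OneMemClass.coe_one,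
    inv_mul_eq_one] at h3
  exact h3


/-- The `p`-part of a product of two elements of order `p` has order at most `p`. -/
theorem pPart_pow_eq_one (P : Sylow p G) (hP : IsMulCommutative (P : Subgroup G)) {x y z : G}
    (hx : x ^ p = 1) (hy : y ^ p = 1)
    (hs : Cfsg.IsPSolvable p ↥(Subgroup.closure ({x, y} : Set G))) (hz : IsPPart p (x * y) z) :
    z ^ p = 1 := by
  have hp : p.Prime := Fact.out
  set H := Subgroup.closure ({x, y} : Set G) with hH
  set K := Cfsg.pPrimeCore p H with hK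
  set π := QuotientGroup.mk' K
  have hπ := QuotientGroup.mk'_surjective K
  set X : H := ⟨x, Subgroup.subset_closure (by simp)⟩
  set Y : H := ⟨y, Subgroup.subset_closure (by simp)⟩
  have hXp : X ^ p = 1 := Subtype.ext (by simpa [X] using hx)
  have hYp : Y ^ p = 1 := Subtype.ext (by simpa [Y] using hy)
  have habQ := abelian_sylow_quotient P hP H K
  have hgen : Subgroup.closure (π '' {X, Y}) = (⊤ : Subgroup (H ⧸ K)) := by
    rw [← MonoidHom.map_closure]
    have : Subgroup.closure ({X, Y} : Set H) = ⊤ := by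
      refine top_le_iff.1 fun c _ => ?_
      have hle : H ≤ (Subgroup.closure ({X, Y} : Set H)).map H.subtype := by
        rw [MonoidHom.map_closure, Set.image_pair]
        exact le_of_eq hH
      obtain ⟨c', hc', e⟩ := hle c.2
      exact Subtype.ext e ▸ hc'
    rw [this, Subgroup.map_top_of_surjective _ hπ]
  have hPG : IsPGroup p (H ⧸ K) := isPGroup_of_generated
    (CfsgLib.PGroup.isPSolvable_quotient hp hs K)
    (CfsgLib.Coprime.pPrimeCore_quotient_eq_bot hp) habQ hgen (by
      rintro _ ⟨c, hc, rfl⟩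
      have hc' : π c ^ p = 1 := by
        rcases hc with rfl | rfl
        · rw [← map_pow, hXp, map_one]
        · rw [← map_pow, hYp, map_one]
      obtain ⟨l, -, hl⟩ := (Nat.dvd_prime_pow hp).1
        (show orderOf (π c) ∣ p ^ 1 by rw [pow_one]; exact orderOf_dvd_of_pow_eq_one hc')
      exact ⟨l, hl⟩)
  obtain ⟨S, hS⟩ := (hPG.to_subgroup (⊤ : Subgroup (H ⧸ K))).exists_le_sylow
  have hc : Commute (π X) (π Y) := habQ S _ (hS (Subgroup.mem_top _)) _ (hS (Subgroup.mem_top _))
  have hmem : (X * Y) ^ p ∈ K := by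
    rw [← QuotientGroup.eq_one_iff]
    show π ((X * Y) ^ p) = 1
    rw [map_pow, map_mul, hc.mul_pow, ← map_pow, ← map_pow, hXp, hYp, map_one, one_mul]
  have hreg : ¬ p ∣ orderOf ((x * y) ^ p) := by
    intro h
    have e : ((((⟨_, hmem⟩ : K) : H) : G)) = (x * y) ^ p := by simp [X, Y]
    rw [← e, Subgroup.orderOf_coe, Subgroup.orderOf_coe] at h
    exact CfsgLib.Coprime.pPrimeCore_not_dvd hp (h.trans (orderOf_dvd_natCard _))
  obtain ⟨w, hw, hcom, ⟨k, hk⟩, hwr⟩ := hz
  have hpart : IsPPart p ((x * y) ^ p) (z ^ p) := by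
    refine ⟨w ^ p, by rw [← hcom.mul_pow, hw], hcom.pow_pow p p, ?_, fun h => hwr (h.trans
      (orderOf_dvd_of_pow_eq_one (by rw [← pow_mul, mul_comm, pow_mul, pow_orderOf_eq_one, one_pow])))⟩
    obtain ⟨l, -, hl⟩ := (Nat.dvd_prime_pow hp).1 (hk ▸ orderOf_pow_dvd (x := z) p)
    exact ⟨l, hl⟩
  exact isPPart_unique hp hpart (isPPart_one_of_not_dvd hreg)

end pair

section sections

variable {p : ℕ} {G : Type u} [Group G] [Fintype G] {M : Ideal AlgInt}

open scoped Classical in
/-- The sum of a class function over a section, as a sum over the regular elements of the centralizer. -/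
theorem sum_section {x : G} (hp : p.Prime) (hxp : ∃ k : ℕ, orderOf x = p ^ k) {C : Subgroup G}
    [Fintype C] (hC : ∀ t : G, t ∈ C ↔ Commute t x) {f : G → ℂ} (hf : Cfsg.IsClassFunction G f) :
    (Nat.card C : ℂ) * ∑ g ∈ univ.filter (fun g => ∃ z, IsPPart p g z ∧ IsConj x z), f g =
      (Nat.card G : ℂ) * ∑ c ∈ univ.filter (fun c : C => ¬ p ∣ orderOf c), f (x * c) := by
  set S := univ.filter (fun g => ∃ z, IsPPart p g z ∧ IsConj x z) with hS
  set R := univ.filter (fun c : C => ¬ p ∣ orderOf c) with hR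
  set φ : G × C → G := fun a => a.1 * (x * a.2) * a.1⁻¹ with hφ
  obtain ⟨k, hk⟩ := hxp
  have hpart : ∀ c ∈ R, IsPPart p (x * (c : G)) x := fun c hc =>
    ⟨c, rfl, ((hC c).1 c.2).symm, ⟨k, hk⟩, by
      rw [Subgroup.orderOf_coe]; exact (mem_filter.1 hc).2⟩
  have hmaps : ∀ a ∈ univ ×ˢ R, φ a ∈ S := fun a ha => mem_filter.2 ⟨mem_univ _,
    _, isPPart_conj (hpart _ (mem_product.1 ha).2) a.1, isConj_iff.2 ⟨a.1, rfl⟩⟩
  have hfib : ∀ g ∈ S, ((univ ×ˢ R).filter fun a => φ a = g).card = Nat.card C := by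
    intro g hg
    obtain ⟨-, z, hz, hxz⟩ := mem_filter.1 hg
    obtain ⟨h₀, rfl⟩ := isConj_iff.1 hxz
    obtain ⟨y, hy, hcom, -, hyr⟩ := isPPart_conj hz h₀⁻¹
    have e : h₀⁻¹ * (h₀ * x * h₀⁻¹) * h₀⁻¹⁻¹ = x := by group
    rw [e] at hy hcom
    have hyC : y ∈ C := (hC y).2 hcom.symm
    rw [Nat.card_eq_fintype_card, ← card_univ]
    refine card_bij' (fun a _ => (⟨h₀⁻¹ * a.1, ?_⟩ : C))
      (fun t _ => (h₀ * t, ⟨(t : G)⁻¹ * y * t, C.mul_mem (C.mul_mem (C.inv_mem t.2) hyC) t.2⟩))
      (fun _ _ => mem_univ _) ?_ ?_ ?_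
    · rename_i ha
      obtain ⟨h1, h2⟩ := mem_filter.1 ha
      have hzz := isPPart_conj (hpart _ (mem_product.1 h1).2) a.1
      simp only [hφ] at h2
      rw [h2] at hzz
      have := isPPart_unique hp hzz hz
      refine (hC _).2 (show h₀⁻¹ * a.1 * x = x * (h₀⁻¹ * a.1) from ?_)
      have h3 : a.1 * x = h₀ * x * h₀⁻¹ * a.1 := by rw [← this]; group
      rw [mul_assoc, h3]; group
    · intro t _
      have ht : (t : G) * x = x * t := (hC t).1 t.2
      refine mem_filter.2 ⟨mem_product.2 ⟨mem_univ _, mem_filter.2 ⟨mem_univ _, ?_⟩⟩, ?_⟩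
      · rw [← Subgroup.orderOf_coe]
        simp only [Subgroup.coe_mk]
        have := MulEquiv.orderOf_eq (MulAut.conj (t : G)⁻¹) y
        simp only [MulAut.conj_apply, inv_inv] at this
        rwa [this]
      · simp only [hφ]
        have h4 : g = h₀ * (x * y) * h₀⁻¹ := by rw [hy]; group
        rw [h4, show h₀ * t * (x * ((t : G)⁻¹ * y * t)) * (h₀ * t)⁻¹ =
          h₀ * ((t : G) * x * (t : G)⁻¹) * y * h₀⁻¹ by group, ht]
        group
    · intro a ha
      obtain ⟨h1, h2⟩ := mem_filter.1 ha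
      refine Prod.ext (by simp) (Subtype.ext ?_)
      simp only [hφ] at h2
      have h4 : a.1 * x * (a.2 : G) * a.1⁻¹ = h₀ * (x * y) * h₀⁻¹ := by
        rw [hy, mul_assoc a.1, h2]; group
      have hcs : Commute (h₀⁻¹ * a.1) x := by
        have hzz := isPPart_conj (hpart _ (mem_product.1 h1).2) a.1
        rw [h2] at hzz
        have := isPPart_unique hp hzz hz
        have h3 : a.1 * x = h₀ * x * h₀⁻¹ * a.1 := by rw [← this]; group
        show h₀⁻¹ * a.1 * x = x * (h₀⁻¹ * a.1)
        rw [mul_assoc, h3]; group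
      simp only
      set t := h₀⁻¹ * a.1 with ht
      have h5 : t * x * (a.2 : G) * t⁻¹ = x * y := by
        rw [ht, show h₀⁻¹ * a.1 * x * (a.2 : G) * (h₀⁻¹ * a.1)⁻¹ =
          h₀⁻¹ * (a.1 * x * (a.2 : G) * a.1⁻¹) * h₀ by group, h4]
        group
      rw [hcs.eq] at h5
      have h6 : t * (a.2 : G) * t⁻¹ = y := by
        apply mul_left_cancel (a := x)
        rw [← h5]; group
      rw [← h6]; group
    · intro t _
      exact Subtype.ext (by simp)
  have h1 : ∑ a ∈ univ ×ˢ R, f (φ a) = (Nat.card C : ℂ) * ∑ g ∈ S, f g := by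
    rw [← sum_fiberwise_of_maps_to hmaps, mul_sum]
    refine sum_congr rfl fun g hg => ?_
    rw [sum_congr rfl fun a ha => by rw [(mem_filter.1 ha).2], sum_const, hfib g hg, nsmul_eq_mul]
  rw [← h1, sum_product, Nat.card_eq_fintype_card, ← card_univ, ← nsmul_eq_mul, ← sum_const]
  refine sum_congr rfl fun h _ => sum_congr rfl fun c _ => ?_
  exact (classFun_isConj hf (isConj_iff.2 ⟨h, rfl⟩)).symm

variable [DecidableEq G] [Fintype (IrrCharacter G)] [M.IsMaximal]

/-- The principal block characters are constant on a section with complemented centralizer. -/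
theorem principal_value_eq (hM : IsPModular p M) {x : G} (hxp : ∃ k : ℕ, orderOf x = p ^ k)
    {C : Subgroup G} [Fintype C] (hC : ∀ t : G, t ∈ C ↔ Commute t x)
    (hn : Cfsg.HasNormalPComplement p C) {θ : IrrCharacter G} (hθ : θ ∈ principalBlock M G) {c : C}
    (hc : ¬ p ∣ orderOf c) : (θ : G → ℂ) (x * c) = (θ : G → ℂ) x := by
  classical
  have := Fintype.ofFinite (IrrCharacter C)
  have h1 : ¬ p ∣ orderOf (1 : C) := by simp [hM.1.ne_one]
  have e1 := Cyclic.secFun_principal_eq hM hxp hC hθ hc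
  have e2 := Cyclic.secFun_principal_eq hM hxp hC hθ h1
  have e : blockPart (principalBlock M C) (secFun x C θ) c =
      blockPart (principalBlock M C) (secFun x C θ) 1 := by
    rw [blockPart_eq, blockPart_eq]
    exact sum_congr rfl fun η hη => by rw [irr_eq_one_of_regular hM hn (mem_filter.mp hη).2 hc]
  rw [← e1, ← e2] at e
  simpa [secFun] using e

open scoped Classical in
/-- Outside the principal block the section sums vanish. -/
theorem sum_section_eq_zero (hM : IsPModular p M) {x : G} (hxp : ∃ k : ℕ, orderOf x = p ^ k)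
    {C : Subgroup G} [Fintype C] (hC : ∀ t : G, t ∈ C ↔ Commute t x)
    (hn : Cfsg.HasNormalPComplement p C) {θ : IrrCharacter G} (hθ : θ ∉ principalBlock M G) :
    ∑ c ∈ univ.filter (fun c : C => ¬ p ∣ orderOf c), (θ : G → ℂ) (x * c) = 0 := by
  have := Fintype.ofFinite (IrrCharacter C)
  have := Fintype.ofFinite (ConjClasses C)
  have h1 : ¬ p ∣ orderOf (1 : C) := by simp [hM.1.ne_one]
  obtain ⟨B, hB⟩ := exists_induced_centralizer hM hxp hC (isPBlock_principalBlock (M := M) (G := C))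
  have hBp : B = principalBlock M G := (isInducedBlock_principal_iff hM hB).mpr rfl
  have h := blockPart_secFun_eq_zero hM hxp hC hB (hBp ▸ hθ) h1
  have hcls : Cfsg.IsClassFunction C (secFun x C θ) := isClassFunction_secFun (fun t => (hC t).1 t.2) θ
  rw [blockPart_regular hM isPBlock_principalBlock hcls h1] at h
  have hterm : ∀ η ∈ univ.filter (· ∈ principalBlock M C),
      classInner (regFun p (secFun x C θ)) (η : C → ℂ) * (η : C → ℂ) 1 =
        ((η : C → ℂ) 1 * (η : C → ℂ) 1) * ((Nat.card C : ℂ)⁻¹ *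
          ∑ c ∈ univ.filter (fun c : C => ¬ p ∣ orderOf c), (θ : G → ℂ) (x * c)) := by
    intro η hη
    rw [classInner, mul_sum, mul_sum, mul_sum, sum_filter, sum_mul]
    refine sum_congr rfl fun c _ => ?_
    by_cases hc : p ∣ orderOf c
    · simp [regFun, hc]
    · simp only [regFun, hc, if_false, not_false_eq_true, if_true, secFun]
      rw [irr_eq_one_of_regular hM hn (mem_filter.mp hη).2 hc, conj_irr_one]
      ring
  rw [sum_congr rfl hterm, ← sum_mul] at h
  have hsq : ∑ η ∈ univ.filter (· ∈ principalBlock M C), (η : C → ℂ) 1 * (η : C → ℂ) 1 =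
      ((p ^ (Nat.card C).factorization p : ℕ) : ℂ) := by
    rw [← sum_sq_principal_of_complement hM hn]
    exact sum_congr (by ext; simp) fun _ _ => rfl
  rw [hsq] at h
  have hne : (Nat.card C : ℂ) ≠ 0 := Nat.cast_ne_zero.2 Nat.card_pos.ne'
  rcases mul_eq_zero.1 h with h2 | h2
  · exact absurd h2 (Nat.cast_ne_zero.2 (pow_ne_zero _ hM.1.ne_zero))
  · exact (mul_eq_zero.1 h2).resolve_left (inv_ne_zero hne)

/-- The number of regular elements of a group with a normal complement. -/
theorem card_regular_mul {C : Type u} [Group C] [Fintype C] [Fact p.Prime]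
    (hn : Cfsg.HasNormalPComplement p C) [DecidablePred fun c : C => ¬ p ∣ orderOf c] :
    (univ.filter fun c : C => ¬ p ∣ orderOf c).card * p ^ (Nat.card C).factorization p = Nat.card C := by
  have h1 : (univ.filter fun c : C => ¬ p ∣ orderOf c).card = Nat.card (Cfsg.pResidual p C) := by
    classical
    have := Fintype.ofFinite (IrrCharacter C)
    rw [Nat.card_eq_fintype_card, ← card_univ]
    refine card_bij' (fun c hc => (⟨c, (mem_pResidual_iff_regular hn).2 (mem_filter.1 hc).2⟩ :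
      Cfsg.pResidual p C)) (fun c _ => (c : C)) (fun _ _ => mem_univ _)
      (fun c _ => mem_filter.2 ⟨mem_univ _, (mem_pResidual_iff_regular hn).1 c.2⟩) (fun _ _ => rfl)
      (fun _ _ => rfl)
  obtain ⟨S⟩ : Nonempty (Sylow p C) := inferInstance
  rw [h1, ← S.card_eq_multiplicity]
  exact ((CfsgLib.Fusion.hasNormalPComplement_iff_forall_sylow).mp hn S).card_mul

end sections

end CfsgLib.Block.PairSolvable
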