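import Cfsg.Agent.Lib.Block.PairSolvable.Basic
import Cfsg.Agent.Lib.Block.AbelianFreeShape

/-!
# Cyclic Sylow subgroups: the normalizer acts freely, fused elements, section sums and the constants of
the coherent family of the principal block
-/

set_option autoImplicit false
set_option linter.unusedSectionVars false
set_option maxHeartbeats 400000

open Finset
open scoped ComplexConjugate

namespace CfsgLib.Block.PairSolvable

open Cfsg CfsgLib.Char CfsgLib.Block CfsgLib.Block.AbelianFree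

universe u

variable {p : ℕ} [Fact p.Prime] {G : Type u} [Group G] [Fintype G] {P : Sylow p G}

/-- With a cyclic Sylow subgroup the normalizer acts freely. -/
theorem free_of_cyclic (hP : IsCyclic ↥(P : Subgroup G)) : Free P := by
  have hp : p.Prime := Fact.out
  have hcomm : IsMulCommutative ↥(P : Subgroup G) := by
    obtain ⟨g, hg⟩ := hP.exists_generator
    refine ⟨⟨fun a b => ?_⟩⟩
    obtain ⟨i, rfl⟩ := Subgroup.mem_zpowers_iff.1 (hg a)
    obtain ⟨j, rfl⟩ := Subgroup.mem_zpowers_iff.1 (hg b)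
    rw [← zpow_add, ← zpow_add, add_comm]
  refine ⟨hcomm, fun y hy hy1 => le_antisymm ?_ (le_inf (Subgroup.centralizer_le
    (Set.singleton_subset_iff.2 hy)) cen_le_nor)⟩
  rintro n ⟨hny, hnN⟩
  obtain ⟨g, hg⟩ := IsCyclic.exists_monoid_generator (α := ↥(P : Subgroup G))
  set w : G := (g : G) with hw
  have hpow : ∀ v ∈ (P : Subgroup G), ∃ i : ℕ, w ^ i = v := fun v hv => by
    obtain ⟨i, hi⟩ := Submonoid.mem_powers_iff _ _ |>.1 (hg ⟨v, hv⟩)
    exact ⟨i, by simpa [hw] using congrArg Subtype.val hi⟩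
  obtain ⟨k, hk⟩ := hpow _ ((Subgroup.mem_normalizer_iff.1 hnN w).1 g.2)
  obtain ⟨j, rfl⟩ := hpow y hy
  obtain ⟨a, ha⟩ : ∃ a : ℕ, orderOf w = p ^ a := by
    obtain ⟨a, ha⟩ := IsPGroup.iff_orderOf.mp P.2 g
    exact ⟨a, by rwa [hw, Subgroup.orderOf_coe]⟩
  have hkj : (p : ℤ) ^ a ∣ (j : ℤ) * ((k : ℤ) - 1) := by
    have e1 : w ^ (k * j) = w ^ j := by
      rw [pow_mul, hk, conj_pow, Subgroup.mem_centralizer_singleton_iff.1 hny, mul_inv_cancel_right]
    rw [pow_eq_pow_iff_modEq, ha] at e1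
    have := Nat.modEq_iff_dvd.1 e1.symm
    push_cast at this
    rw [mul_sub, mul_one, mul_comm (j : ℤ)]
    exact this
  have hk1 : (p : ℤ) ∣ (k : ℤ) - 1 := by
    by_contra hnd
    have hcop : IsCoprime ((p : ℤ) ^ a) ((k : ℤ) - 1) :=
      IsCoprime.pow_left ((Nat.prime_iff_prime_int.1 hp).irreducible.coprime_iff_not_dvd.2 hnd)
    have h2 : p ^ a ∣ j := by exact_mod_cast hcop.dvd_of_dvd_mul_right hkj
    exact hy1 (orderOf_dvd_iff_pow_eq_one.1 (ha ▸ h2))
  have hconj : ∀ i : ℕ, n ^ i * w * (n ^ i)⁻¹ = w ^ (k ^ i) := by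
    intro i
    induction i with
    | zero => simp
    | succ i ih =>
      rw [pow_succ', show n * n ^ i * w * (n * n ^ i)⁻¹ = n * (n ^ i * w * (n ^ i)⁻¹) * n⁻¹ by group, ih,
        ← conj_pow, ← hk, ← pow_mul, pow_succ']
  have hbig : n ^ p ^ a ∈ cen P := by
    have h1 : n ^ p ^ a * w * (n ^ p ^ a)⁻¹ = w := by
      rw [hconj]
      conv_rhs => rw [← pow_one w]
      rw [pow_eq_pow_iff_modEq, ha, Nat.modEq_iff_dvd]
      have h := dvd_sub_pow_of_dvd_sub hk1 a
      rw [one_pow] at h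
      push_cast
      rw [← neg_sub, dvd_neg]
      exact (pow_dvd_pow _ a.le_succ).trans h
    refine Subgroup.mem_centralizer_iff.2 fun v hv => ?_
    obtain ⟨i, rfl⟩ := hpow v hv
    exact (Commute.pow_left (mul_inv_eq_iff_eq_mul.1 h1).symm i).eq
  have hPc : (P : Subgroup G) ≤ cen P := fun v hv => Subgroup.mem_centralizer_iff.2 fun v' hv' =>
    congrArg Subtype.val (hcomm.1.1 ⟨v', hv'⟩ ⟨v, hv⟩)
  haveI : ((cen P).subgroupOf (nor P)).Normal := by
    refine ⟨fun c hc t => ?_⟩
    rw [Subgroup.mem_subgroupOf] at hc ⊢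
    refine Subgroup.mem_centralizer_iff.2 fun v hv => ?_
    have h1 : (t : G)⁻¹ * v * t ∈ (P : Subgroup G) := by
      simpa using (Subgroup.mem_normalizer_iff.1 ((nor P).inv_mem t.2) v).1 hv
    have h2 := Subgroup.mem_centralizer_iff.1 hc _ h1
    calc v * ((t * c * t⁻¹ : nor P) : G) = (t : G) * ((t : G)⁻¹ * v * t * c) * (t : G)⁻¹ := by
          push_cast; group
      _ = (t : G) * (c * ((t : G)⁻¹ * v * t)) * (t : G)⁻¹ := by rw [h2]
      _ = _ := by push_cast; group
  have hind : n ^ (cen P).relIndex (nor P) ∈ cen P := by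
    have h := Subgroup.pow_index_mem ((cen P).subgroupOf (nor P)) ⟨n, hnN⟩
    rw [Subgroup.mem_subgroupOf, SubmonoidClass.coe_pow] at h
    exact h
  have hdvd : ¬ p ∣ (cen P).relIndex (nor P) := fun h => P.not_dvd_index (h.trans
    ((Dvd.intro_left _ (Subgroup.relIndex_mul_relIndex _ _ _ hPc cen_le_nor)).trans
      (Dvd.intro _ (Subgroup.relIndex_mul_index (hPc.trans cen_le_nor)))))
  set Q := (cen P).subgroupOf (nor P)
  set x : nor P ⧸ Q := QuotientGroup.mk ⟨n, hnN⟩
  have e1 : x ^ p ^ a = 1 := by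
    rw [← QuotientGroup.mk_pow, QuotientGroup.eq_one_iff]
    simpa [Q, Subgroup.mem_subgroupOf] using hbig
  have e2 : x ^ (cen P).relIndex (nor P) = 1 := by
    rw [← QuotientGroup.mk_pow, QuotientGroup.eq_one_iff]
    simpa [Q, Subgroup.mem_subgroupOf] using hind
  have e3 : x = 1 := orderOf_eq_one_iff.1 (Nat.eq_one_of_dvd_coprimes
    (Nat.Coprime.pow_left a (hp.coprime_iff_not_dvd.2 hdvd)) (orderOf_dvd_of_pow_eq_one e1)
    (orderOf_dvd_of_pow_eq_one e2))
  simpa [x, Q, Subgroup.mem_subgroupOf] using (QuotientGroup.eq_one_iff _).1 e3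

variable (h : Free P)
include h

/-- The Sylow part of the centralizer of a nontrivial element of `P`. -/
theorem factorization_centralizer {y : G} (hy : y ∈ (P : Subgroup G)) :
    p ^ (Nat.card (Subgroup.centralizer ({y} : Set G))).factorization p = Nat.card (P : Subgroup G) := by
  have hp : p.Prime := Fact.out
  refine Nat.dvd_antisymm ?_ ?_
  · rw [P.card_eq_multiplicity]
    exact pow_dvd_pow p ((Nat.factorization_le_iff_dvd Nat.card_pos.ne' Nat.card_pos.ne').2
      (Subgroup.card_subgroup_dvd_card _) p)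
  · have h1 : Nat.card (P : Subgroup G) ∣ Nat.card (Subgroup.centralizer ({y} : Set G)) :=
      Subgroup.card_dvd_of_le (h.le_centralizer hy)
    obtain ⟨n, hn⟩ := P.2.exists_card_eq
    rw [hn] at h1 ⊢
    exact pow_dvd_pow p ((hp.pow_dvd_iff_le_factorization Nat.card_pos.ne').1 h1)

open scoped Classical in
/-- The elements of `P` fused to one of them number `|N(P) : C(P)|`. -/
theorem card_fused_mul {y : G} (hy : y ∈ (P : Subgroup G)) (hy1 : y ≠ 1) :
    (univ.filter fun u : G => u ∈ (P : Subgroup G) ∧ IsConj y u).card * Nat.card (cen P) =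
      Nat.card (nor P) := by
  set S := univ.filter fun u : G => u ∈ (P : Subgroup G) ∧ IsConj y u
  have := Fintype.ofFinite ↥(nor P)
  have hmaps : ∀ n ∈ (univ : Finset (nor P)), (n : G) * y * (n : G)⁻¹ ∈ S := fun n _ =>
    mem_filter.2 ⟨mem_univ _, (Subgroup.mem_normalizer_iff.1 n.2 y).1 hy, isConj_iff.2 ⟨n, rfl⟩⟩
  rw [Nat.card_eq_fintype_card (α := nor P), ← card_univ, card_eq_sum_card_fiberwise hmaps,
    sum_congr rfl fun u hu => ?_, sum_const, smul_eq_mul]
  obtain ⟨-, huP, huy⟩ := mem_filter.1 hu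
  obtain ⟨g, rfl⟩ := isConj_iff.1 huy
  obtain ⟨n₀, hn₀, e₀⟩ := h.fusion hy huP
  have := Fintype.ofFinite ↥(cen P)
  rw [Nat.card_eq_fintype_card, ← card_univ]
  refine card_bij' (fun n hn => (⟨n₀⁻¹ * (n : G), ?_⟩ : cen P))
    (fun c _ => (⟨n₀ * c, (nor P).mul_mem hn₀ (cen_le_nor c.2)⟩ : nor P))
    (fun _ _ => mem_univ _) ?_ (fun n _ => Subtype.ext (by simp)) (fun c _ => Subtype.ext (by simp))
  · have e : (n : G) * y * (n : G)⁻¹ = n₀ * y * n₀⁻¹ := ((mem_filter.1 hn).2).trans e₀.symm
    rw [← h.inf_nor hy hy1]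
    refine Subgroup.mem_inf.2 ⟨(nor P).mul_mem ((nor P).inv_mem hn₀) n.2,
      Subgroup.mem_centralizer_singleton_iff.2 ?_⟩
    have h3 : (n : G) * y = n₀ * y * n₀⁻¹ * n := by rw [← e]; group
    rw [mul_assoc, h3]; group
  · intro c _
    refine mem_filter.2 ⟨mem_univ _, ?_⟩
    have hc : (c : G) * y = y * c := ((Subgroup.mem_centralizer_iff.1 c.2) y hy).symm
    simp only
    rw [← e₀, show n₀ * (c : G) * y * (n₀ * (c : G))⁻¹ = n₀ * ((c : G) * y * (c : G)⁻¹) * n₀⁻¹ by group,
      hc, mul_inv_cancel_right]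

/-- The index of the centralizer in the normalizer. -/
theorem card_fused {y : G} (hy : y ∈ (P : Subgroup G)) (hy1 : y ≠ 1)
    [DecidablePred fun u : G => u ∈ (P : Subgroup G) ∧ IsConj y u] :
    (univ.filter fun u : G => u ∈ (P : Subgroup G) ∧ IsConj y u).card = (cen P).relIndex (nor P) := by
  classical
  refine Nat.eq_of_mul_eq_mul_right (Nat.card_pos (α := cen P)) ?_
  rw [mul_comm ((cen P).relIndex _)]
  conv_rhs =>
    rw [← Subgroup.relIndex_bot_left (cen P), Subgroup.relIndex_mul_relIndex _ _ _ bot_le cen_le_nor,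
      Subgroup.relIndex_bot_left]
  convert card_fused_mul h hy hy1

theorem exists_pow_orderOf {y : G} (hy : y ∈ (P : Subgroup G)) : ∃ k : ℕ, orderOf y = p ^ k :=
  h.orderOf_mem hy

variable [DecidableEq G] [Fintype (IrrCharacter G)] {M : Ideal AlgInt}

open scoped Classical in
/-- The sum of a character over the section of an element of `P`. -/
theorem sum_section_free (hM : IsPModular p M) {y : G} (hy : y ∈ (P : Subgroup G)) (hy1 : y ≠ 1)
    (θ : IrrCharacter G) :
    (Nat.card (P : Subgroup G) : ℂ) *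
      ∑ g ∈ univ.filter (fun g => ∃ z, IsPPart p g z ∧ IsConj y z), (θ : G → ℂ) g =
      (Nat.card G : ℂ) * if θ ∈ blk M then (θ : G → ℂ) y else 0 := by
  have hp : p.Prime := Fact.out
  have := hM.2.1
  set C := Subgroup.centralizer ({y} : Set G)
  have := Fintype.ofFinite C
  have hC : ∀ t : G, t ∈ C ↔ Commute t y := fun t => Subgroup.mem_centralizer_singleton_iff
  have hn := h.hasNormalPComplement hy hy1
  have hyp := h.orderOf_mem hy
  have hm := card_regular_mul (p := p) hn
  rw [factorization_centralizer h hy] at hm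
  have hs := sum_section hp hyp hC (isClassFunction_irr θ)
  have hsec : ∑ c ∈ univ.filter (fun c : C => ¬ p ∣ orderOf c), (θ : G → ℂ) (y * c) =
      ((univ.filter fun c : C => ¬ p ∣ orderOf c).card : ℂ) *
        if θ ∈ blk M then (θ : G → ℂ) y else 0 := by
    by_cases hθ : θ ∈ principalBlock M G
    · rw [if_pos ((mem_blk M).2 hθ), ← nsmul_eq_mul, ← sum_const]
      exact sum_congr rfl fun c hc => principal_value_eq hM hyp hC hn hθ (mem_filter.1 hc).2
    · rw [if_neg (fun hh => hθ ((mem_blk M).1 hh)), mul_zero]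
      exact sum_section_eq_zero hM hyp hC hn hθ
  rw [hsec, ← hm, Nat.cast_mul] at hs
  set m := (univ.filter fun c : C => ¬ p ∣ orderOf c).card
  have hm0 : (m : ℂ) ≠ 0 := Nat.cast_ne_zero.2 fun h0 => by
    rw [h0, zero_mul] at hm; exact Nat.card_pos.ne' hm.symm
  apply mul_left_cancel₀ hm0
  calc (m : ℂ) * ((Nat.card (P : Subgroup G) : ℂ) *
        ∑ g ∈ univ.filter (fun g => ∃ z, IsPPart p g z ∧ IsConj y z), (θ : G → ℂ) g)
      = ((m : ℂ) * (Nat.card (P : Subgroup G) : ℂ)) *
          ∑ g ∈ univ.filter (fun g => ∃ z, IsPPart p g z ∧ IsConj y z), (θ : G → ℂ) g := by rw [mul_assoc]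
    _ = (Nat.card G : ℂ) * ((m : ℂ) * if θ ∈ blk M then (θ : G → ℂ) y else 0) := by
        refine Eq.trans (congrArg₂ (· * ·) rfl ?_) hs
        refine Finset.sum_congr (Finset.ext fun g => ?_) fun _ _ => rfl
        simp only [Finset.mem_filter]
    _ = _ := mul_left_comm _ _ _

open scoped Classical in
/-- Columns of the principal block at elements of `P`. -/
theorem sum_blk_mul_conj (hM : IsPModular p M) {y z : G} (hy : y ∈ (P : Subgroup G)) (hy1 : y ≠ 1)
    (hz : z ∈ (P : Subgroup G)) :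
    ∑ θ ∈ (blk M : Finset (IrrCharacter G)), (θ : G → ℂ) y * conj ((θ : G → ℂ) z) =
      if IsConj y z then (Nat.card (P : Subgroup G) : ℂ) else 0 := by
  have hp : p.Prime := Fact.out
  have := hM.2.1
  have hpart : ∀ w ∈ (P : Subgroup G), IsPPart p w w := fun w hw =>
    ⟨1, mul_one w, Commute.one_right w, h.orderOf_mem hw, by simp [hp.ne_one]⟩
  split_ifs with hc
  · set C := Subgroup.centralizer ({y} : Set G)
    have := Fintype.ofFinite C
    have := Fintype.ofFinite (IrrCharacter C)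
    have := Fintype.ofFinite (ConjClasses C)
    have hC : ∀ t : G, t ∈ C ↔ Commute t y := fun t => Subgroup.mem_centralizer_singleton_iff
    have hs := sum_principal_secFun (M := M) hM (h.orderOf_mem hy) hC (y := 1) (z := 1)
      (by simp [hp.ne_one]) (by simp [hp.ne_one])
    have h2 : ∑ᶠ η ∈ principalBlock M C, (η : C → ℂ) 1 * conj ((η : C → ℂ) 1) =
        (Nat.card (P : Subgroup G) : ℂ) := by
      rw [← factorization_centralizer h hy,
        ← sum_sq_principal_of_complement hM (h.hasNormalPComplement hy hy1),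
        finsum_mem_eq_finite_toFinset_sum _ (Set.toFinite _)]
      exact Finset.sum_congr rfl fun η _ => by rw [conj_irr_one]
    rw [h2, OneMemClass.coe_one, mul_one, sum_blk] at hs
    rw [← hs]
    exact sum_congr rfl fun θ _ => by rw [classFun_isConj (isClassFunction_irr θ) hc]
  · rw [← sum_blk]
    exact blockUnion_orthogonal_conj hM (IsBlockUnion.of_isPBlock isPBlock_principalBlock)
      (hpart y hy) (hpart z hz) hc

omit h in
/-- A class function of the products of two classes, in terms of characters. -/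
theorem sum_conj_products {R : G → ℂ} (hR : IsClassFunction G R) (a b : G) :
    ∑ v : G, R (a * (v * b * v⁻¹)) = ∑ θ : IrrCharacter G,
      ((Nat.card G : ℂ) * classInner R (θ : G → ℂ)) *
        ((θ : G → ℂ) a * (θ : G → ℂ) b / (θ : G → ℂ) 1) := by
  calc ∑ v : G, R (a * (v * b * v⁻¹))
      = ∑ v : G, ∑ θ : IrrCharacter G, classInner R (θ : G → ℂ) * (θ : G → ℂ) (a * (v * b * v⁻¹)) := by
        refine sum_congr rfl fun v _ => ?_
        conv_lhs => rw [classFun_expand hR]
        simp [Finset.sum_apply]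
    _ = _ := by
        rw [sum_comm]
        refine sum_congr rfl fun θ _ => ?_
        rw [← mul_sum, sum_conj_char]; ring

variable [Fintype ↥(P : Subgroup G)] [Fintype (Lin P)]

open scoped Classical in
omit h in
/-- The number of nontrivial linear characters of `P` whose family member is `θ`. -/
noncomputable def fib (E : Coherent P M) (θ : IrrCharacter G) : Finset (Lin P) :=
  univ.filter fun ψ : Lin P => ψ ≠ 1 ∧ E.ζ ψ = θ

/-- The degree in terms of the constants of the family. -/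
theorem degree_eq (E : Coherent P M) {θ : IrrCharacter G} (hθ : θ ∈ blk M) :
    (charDegree (θ : G → ℂ) : ℤ) =
      (Nat.card (P : Subgroup G) : ℤ) * E.c θ + E.base θ + E.δ * (fib E θ).card := by
  classical
  obtain ⟨d, hd⟩ := isCharacter_degree (isCharacter_irr θ)
  have hcd : (charDegree (θ : G → ℂ) : ℂ) = (θ : G → ℂ) 1 := by
    rw [charDegree, hd, Complex.natCast_re, Nat.floor_natCast]
  have he : ((charDegree (θ : G → ℂ) : ℤ) : ℂ) = ((∑ ψ : Lin P, (mult θ ψ : ℤ) : ℤ) : ℂ) := by
    push_cast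
    rw [hcd]
    have e := h.expand θ (1 : ↥(P : Subgroup G))
    rw [OneMemClass.coe_one] at e
    rw [e]
    exact sum_congr rfl fun ψ _ => by simp
  have he' : (charDegree (θ : G → ℂ) : ℤ) = ∑ ψ : Lin P, (mult θ ψ : ℤ) := by exact_mod_cast he
  rw [he', ← add_sum_erase _ _ (mem_univ (1 : Lin P)), sum_congr rfl fun ψ hψ =>
    E.mult_eq θ ((mem_blk M).1 hθ) ψ (ne_of_mem_erase hψ), sum_add_distrib, sum_const,
    card_erase_of_mem (mem_univ _), card_univ, h.card_lin, nsmul_eq_mul, ← mul_sum, sum_boole]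
  have hf : ((univ.erase (1 : Lin P)).filter fun ψ => E.ζ ψ = θ) = fib E θ := by
    ext ψ; simp [fib]
  rw [hf, Nat.cast_sub Nat.card_pos, Coherent.base]
  push_cast
  ring

/-- The sum over the nontrivial elements of `P`. -/
theorem sum_values_eq (E : Coherent P M) {θ : IrrCharacter G} (hθ : θ ∈ blk M) :
    ∑ w ∈ univ.erase (1 : ↥(P : Subgroup G)), (θ : G → ℂ) w =
      (((Nat.card (P : Subgroup G) : ℤ) - 1) * E.base θ - E.δ * (fib E θ).card : ℤ) := by
  classical
  rw [sum_congr rfl fun w hw => E.value h ((mem_blk M).1 hθ) (ne_of_mem_erase hw), sum_add_distrib,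
    sum_const, card_erase_of_mem (mem_univ _), card_univ, nsmul_eq_mul, ← mul_sum, sum_comm]
  have h1 : ∀ ψ ∈ fib E θ, ∑ w ∈ univ.erase (1 : ↥(P : Subgroup G)), (ψ w : ℂ) = -1 := by
    intro ψ hψ
    have e := sum_lin_mul (P := P) ψ 1
    rw [if_neg (mem_filter.1 hψ).2.1] at e
    rw [sum_congr rfl fun w _ => by rw [MonoidHom.one_apply, Units.val_one, map_one, mul_one],
      ← add_sum_erase _ _ (mem_univ (1 : ↥(P : Subgroup G))), map_one, Units.val_one] at e
    linear_combination e
  rw [show (univ.filter fun ψ : Lin P => ψ ≠ 1 ∧ E.ζ ψ = θ) = fib E θ from rfl, sum_congr rfl h1,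
    sum_const, nsmul_eq_mul, Nat.card_eq_fintype_card]
  push_cast [Nat.cast_sub (Fintype.card_pos (α := ↥(P : Subgroup G)))]
  ring

end CfsgLib.Block.PairSolvable
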