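import Cfsg.Agent.Lib.Block.PairSolvable.CyclicLocal
import Cfsg.Agent.Lib.Block.AbelianFreeThree

/-!
# A cyclic Sylow subgroup of order above `p` in a simple group

If two elements of order `p` always generate a `p`-solvable subgroup, no product of two of them has a
`p`-part of order above `p`; the principal block does not allow this.
-/

set_option autoImplicit false
set_option linter.unusedSectionVars false
set_option maxHeartbeats 800000

open Finset
open scoped ComplexConjugate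

namespace CfsgLib.Block.PairSolvable

open Cfsg CfsgLib.Char CfsgLib.Block CfsgLib.Block.AbelianFree

universe u

variable {p : ℕ} [Fact p.Prime] {G : Type u} [Group G] [Fintype G] [IsSimpleGroup G] {P : Sylow p G}

/-- The automizer of a cyclic Sylow subgroup acts faithfully on its elements of order `p`. -/
theorem relIndex_le (hP : IsCyclic ↥(P : Subgroup G)) (h : Free P) (hP1 : (P : Subgroup G) ≠ ⊥) :
    ∃ x ∈ (P : Subgroup G), orderOf x = p ∧ (cen P).relIndex (nor P) ≤ p - 1 ∧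
      ((cen P).relIndex (nor P) = p - 1 →
        ∀ y ∈ (P : Subgroup G), orderOf y = p → IsConj x y) := by
  classical
  have hp : p.Prime := Fact.out
  haveI : Nontrivial ↥(P : Subgroup G) := (Subgroup.nontrivial_iff_ne_bot _).2 hP1
  have hdvd : p ∣ Nat.card (P : Subgroup G) := by
    obtain ⟨n, hn⟩ := P.2.exists_card_eq
    rcases Nat.eq_zero_or_pos n with h0 | h0
    · exact absurd (Subgroup.card_eq_one.1 (by rw [hn, h0, pow_zero])) hP1
    · exact hn ▸ dvd_pow_self p h0.ne'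
  obtain ⟨x, hx⟩ := exists_prime_orderOf_dvd_card' p hdvd
  have := Fintype.ofFinite ↥(P : Subgroup G)
  have hx' : orderOf (x : G) = p := by rwa [Subgroup.orderOf_coe]
  have hx1 : (x : G) ≠ 1 := fun e => hp.ne_one (by rw [← hx', e, orderOf_one])
  refine ⟨x, x.2, hx', ?_⟩
  set S := univ.filter fun u : G => u ∈ (P : Subgroup G) ∧ IsConj (x : G) u
  set T := univ.filter fun u : G => u ∈ (P : Subgroup G) ∧ orderOf u = p
  have hST : S ⊆ T := fun u hu => by
    obtain ⟨-, huP, huy⟩ := mem_filter.1 hu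
    obtain ⟨c, rfl⟩ := isConj_iff.1 huy
    exact mem_filter.2 ⟨mem_univ _, huP, (MulEquiv.orderOf_eq (MulAut.conj c) (x : G)).trans hx'⟩
  have hT : T.card = p - 1 := by
    have hd : p ∣ Fintype.card ↥(P : Subgroup G) := by rwa [← Nat.card_eq_fintype_card]
    have e := IsCyclic.card_orderOf_eq_totient (α := ↥(P : Subgroup G)) hd
    rw [Nat.totient_prime hp] at e
    rw [← e]
    refine card_bij (fun u hu => (⟨u, (mem_filter.1 hu).2.1⟩ : ↥(P : Subgroup G)))
      (fun u hu => mem_filter.2 ⟨mem_univ _, ?_⟩) (fun a _ b _ hab => congrArg Subtype.val hab)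
      (fun b hb => ⟨b, mem_filter.2 ⟨mem_univ _, b.2, ?_⟩, rfl⟩)
    · rw [← Subgroup.orderOf_coe]; exact (mem_filter.1 hu).2.2
    · rw [Subgroup.orderOf_coe]; exact (mem_filter.1 hb).2
  have hS : S.card = (cen P).relIndex (nor P) := card_fused h x.2 hx1
  refine ⟨hS ▸ hT ▸ card_le_card hST, fun he y hy hy' => ?_⟩
  have hEq : S = T := eq_of_subset_of_card_le hST (by rw [hS, hT, he])
  exact (mem_filter.1 (hEq ▸ mem_filter.2 ⟨mem_univ y, hy, hy'⟩ : y ∈ S)).2.2

variable [DecidableEq G] [Fintype (IrrCharacter G)] [Fintype ↥(P : Subgroup G)] [Fintype (Lin P)]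
  {M : Ideal AlgInt}

/-- The sum over the exceptional family of `θ x ^ 2 * conj (θ u)`. -/
theorem sum_Y_cube (h : Free P) (E : Coherent P M) (hb : ∀ θ ∈ E.Y, E.base θ = 0) {x u : ↥(P : Subgroup G)}
    (hx : x ^ p = 1) (hx1 : x ≠ 1) (hu : u ^ p ≠ 1) (he : 0 < (cen P).relIndex (nor P)) :
    ∑ θ ∈ E.Y, (θ : G → ℂ) x ^ 2 * conj ((θ : G → ℂ) u) =
      -((E.δ : ℂ) * ((cen P).relIndex (nor P) : ℂ) ^ 2) := by
  classical
  set e := (cen P).relIndex (nor P) with hedef
  have hu1 : u ≠ 1 := fun e => hu (by rw [e, one_pow])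
  have := Fintype.ofFinite ↥(nor P)
  set k := (Nat.card (cen P) : ℂ) with hk
  have hk0 : k ≠ 0 := Nat.cast_ne_zero.2 Nat.card_pos.ne'
  have hnor : (Nat.card (nor P) : ℂ) = k * e := by
    rw [hk, hedef, ← Nat.cast_mul, ← Subgroup.relIndex_bot_left (cen P),
      Subgroup.relIndex_mul_relIndex _ _ _ bot_le cen_le_nor, Subgroup.relIndex_bot_left]
  -- orbit sums
  have horb : ∀ ψ : Lin P, ψ ≠ 1 → ∀ y : ↥(P : Subgroup G), y ≠ 1 →
      k * (E.ζ ψ : G → ℂ) y = (E.δ : ℂ) * ∑ n : nor P, (tw P n ψ y : ℂ) := by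
    intro ψ hψ y hy
    rw [E.value h (E.mem ψ hψ) hy, hb _ (E.mem_Y.2 ⟨ψ, hψ, rfl⟩), Int.cast_zero, zero_add,
      E.filter_eq_rel hψ, ← sum_fiberwise_of_maps_to (g := fun n : nor P => tw P n ψ)
        (t := (univ : Finset (Lin P))) (fun _ _ => mem_univ _) (fun n => (tw P n ψ y : ℂ))]
    rw [sum_filter, mul_sum, mul_sum, mul_sum]
    refine sum_congr rfl fun b _ => ?_
    rw [sum_congr rfl fun n hn => by rw [(mem_filter.1 hn).2], sum_const, nsmul_eq_mul]
    have hcard : ((univ.filter fun n : nor P => tw P n ψ = b).card : ℂ) = if Rel P ψ b then k else 0 := by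
      rw [← Fintype.card_subtype, ← Nat.card_eq_fintype_card]
      by_cases hb1 : b = 1
      · subst hb1
        rw [if_neg fun e => hψ (rel_triv_iff.mp (rel_symm e))]
        rw [Nat.cast_eq_zero, Nat.card_eq_zero]
        exact Or.inl ⟨fun n => hψ (rel_triv_iff.mp (rel_symm (rel_iff.mpr ⟨n.1, n.2⟩)))⟩
      · rw [h.card_tw hb1 ψ]
        split_ifs <;> simp [hk]
    rw [hcard]
    split_ifs <;> ring
  have hinv : ∀ (ψ : Lin P) (y : ↥(P : Subgroup G)), conj (ψ y : ℂ) = (ψ y⁻¹ : ℂ) := conj_lin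
  set cj := fun n : nor P => (P : Subgroup G).normalizerMonoidHom n⁻¹ with hcj
  have htriple : ∀ n₁ n₂ n₃ : nor P,
      ∑ ψ ∈ univ.erase (1 : Lin P), (tw P n₁ ψ x : ℂ) * (tw P n₂ ψ x : ℂ) * conj (tw P n₃ ψ u : ℂ) = -1 := by
    intro n₁ n₂ n₃
    set v := cj n₁ x * cj n₂ x * (cj n₃ u)⁻¹ with hv
    have hv1 : v ≠ 1 := by
      intro e
      have e2 : cj n₃ u = cj n₁ x * cj n₂ x := (mul_inv_eq_one.1 e).symm
      have hc : Commute (cj n₁ x) (cj n₂ x) := h.comm.1.1 _ _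
      have e3 : (cj n₃ u) ^ p = 1 := by
        rw [e2, hc.mul_pow, ← map_pow, ← map_pow, hx, map_one, map_one, one_mul]
      rw [← map_pow] at e3
      exact hu ((map_eq_one_iff _ (MulEquiv.injective _)).1 e3)
    have e := h.sum_lin_apply hv1
    rw [← add_sum_erase _ _ (mem_univ (1 : Lin P)), MonoidHom.one_apply, Units.val_one] at e
    rw [sum_congr rfl (g := fun ψ : Lin P => (ψ v : ℂ)) fun ψ _ => by
      rw [hinv, tw_apply, tw_apply, tw_apply, hv, map_mul, map_mul]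
      simp only [Units.val_mul, hcj, map_inv]]
    linear_combination e
  have hsum : ∑ ψ ∈ univ.erase (1 : Lin P), k ^ 3 * ((E.ζ ψ : G → ℂ) x ^ 2 * conj ((E.ζ ψ : G → ℂ) u)) =
      -((E.δ : ℂ) * (k * e) ^ 3) := by
    have hδ : (E.δ : ℂ) * E.δ = 1 := by rcases E.sign with hs | hs <;> simp [hs]
    calc ∑ ψ ∈ univ.erase (1 : Lin P), k ^ 3 * ((E.ζ ψ : G → ℂ) x ^ 2 * conj ((E.ζ ψ : G → ℂ) u))
        = ∑ ψ ∈ univ.erase (1 : Lin P), (E.δ : ℂ) * ∑ n₁ : nor P, ∑ n₂ : nor P, ∑ n₃ : nor P,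
            (tw P n₁ ψ x : ℂ) * (tw P n₂ ψ x : ℂ) * conj (tw P n₃ ψ u : ℂ) := by
          refine sum_congr rfl fun ψ hψ => ?_
          have h1 := horb ψ (ne_of_mem_erase hψ) x hx1
          have h2 := congrArg conj (horb ψ (ne_of_mem_erase hψ) u hu1)
          rw [map_mul, map_mul, map_intCast, map_sum, show conj k = k from map_natCast _ _] at h2
          calc k ^ 3 * ((E.ζ ψ : G → ℂ) x ^ 2 * conj ((E.ζ ψ : G → ℂ) u))
              = (k * (E.ζ ψ : G → ℂ) x) ^ 2 * (k * conj ((E.ζ ψ : G → ℂ) u)) := by ring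
            _ = _ := by
                rw [h1, h2, mul_pow, sq (E.δ : ℂ), hδ, one_mul, sq, mul_left_comm, sum_mul_sum, sum_mul]
                congr 1
                refine sum_congr rfl fun n₁ _ => ?_
                rw [sum_mul]
                exact sum_congr rfl fun n₂ _ => mul_sum _ _ _
      _ = _ := by
          rw [← mul_sum, sum_comm, sum_congr rfl fun n₁ _ => sum_comm,
            sum_congr rfl fun n₁ _ => sum_congr rfl fun n₂ _ => sum_comm,
            sum_congr rfl fun n₁ _ => sum_congr rfl fun n₂ _ => sum_congr rfl fun n₃ _ => htriple n₁ n₂ n₃,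
            ← hnor, Nat.card_eq_fintype_card (α := nor P)]
          simp only [sum_const, card_univ, nsmul_eq_mul]
          ring
  have hfib : ∑ ψ ∈ univ.erase (1 : Lin P), ((E.ζ ψ : G → ℂ) x ^ 2 * conj ((E.ζ ψ : G → ℂ) u)) =
      (e : ℂ) * ∑ θ ∈ E.Y, (θ : G → ℂ) x ^ 2 * conj ((θ : G → ℂ) u) := by
    rw [← sum_fiberwise_of_maps_to (g := E.ζ) (t := E.Y)
      (fun ψ hψ => E.mem_Y.2 ⟨ψ, ne_of_mem_erase hψ, rfl⟩), mul_sum]
    refine sum_congr rfl fun θ hθ => ?_
    rw [sum_congr rfl fun ψ hψ => by rw [(mem_filter.1 hψ).2], sum_const, nsmul_eq_mul]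
    obtain ⟨a, ha, rfl⟩ := E.mem_Y.1 hθ
    congr 2
    rw [hedef, ← h.card_rel ha, ← E.filter_eq_rel ha]
    exact congrArg Finset.card (by ext; simp)
  rw [← mul_sum, hfib] at hsum
  have he0 : (e : ℂ) ≠ 0 := Nat.cast_ne_zero.2 he.ne'
  apply mul_left_cancel₀ (mul_ne_zero (pow_ne_zero 3 hk0) he0)
  rw [mul_assoc, hsum]; ring

/-- No simple group has a cyclic Sylow subgroup of order above `p` with all pairs of elements of order
`p` generating `p`-solvable subgroups. -/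
theorem false_of_large_cyclic (hP : IsCyclic ↥(P : Subgroup G)) (hbig : p < Nat.card (P : Subgroup G))
    (he2 : 2 ≤ (cen P).relIndex (nor P))
    (hc : ∀ x y : G, orderOf x = p → orderOf y = p →
      Cfsg.IsPSolvable p ↥(Subgroup.closure ({x, y} : Set G))) : False := by
  classical
  have hp : p.Prime := Fact.out
  have h := free_of_cyclic hP
  have hP1 : (P : Subgroup G) ≠ ⊥ := fun e => by
    rw [Subgroup.card_eq_one.2 e] at hbig; exact absurd hbig (not_lt.2 hp.one_le)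
  obtain ⟨x, hxP, hxp, hep, -⟩ := relIndex_le hP h hP1
  obtain ⟨M, hM⟩ := exists_pModular hp
  have := hM.2.1
  set q := Nat.card (P : Subgroup G) with hq
  set e := (cen P).relIndex (nor P) with hedef
  have hq2 : p ^ 2 ≤ q := by
    obtain ⟨n, hn⟩ := P.2.exists_card_eq
    rw [hq, hn] at hbig ⊢
    refine Nat.pow_le_pow_right hp.pos ?_
    by_contra hlt
    have h1 : p ^ n ≤ p ^ 1 := Nat.pow_le_pow_right hp.pos (by omega)
    rw [pow_one] at h1
    omega
  have hqe : (e + 1) ^ 2 ≤ q := le_trans (Nat.pow_le_pow_left (by omega) 2) hq2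
  have hm : e + 1 < q := lt_of_lt_of_le (by nlinarith) hqe
  obtain ⟨E⟩ := h.exists_coherent hM hm
  have hP1' : q ≠ 1 := by omega
  obtain ⟨g, hg⟩ := hP.exists_generator
  have hgord : orderOf g = q := orderOf_eq_card_of_forall_mem_zpowers hg
  have hgp : g ^ p ≠ 1 := fun e => by
    have := Nat.le_of_dvd hp.pos (hgord ▸ orderOf_dvd_of_pow_eq_one e); omega
  set u : G := (g : G)
  have hu1 : u ≠ 1 := fun e => hgp (by rw [show g = 1 from Subtype.ext e, one_pow])
  have hx1 : x ≠ 1 := fun e => hp.ne_one (by rw [← hxp, e, orderOf_one])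
  -- no product of two conjugates of `x` meets the section of `u`
  set R : G → ℂ := fun w => if ∃ z, IsPPart p w z ∧ IsConj u z then 1 else 0 with hR
  have hzero : ∑ v : G, R (x * (v * x * v⁻¹)) = 0 := sum_eq_zero fun v _ => if_neg (by
    rintro ⟨z, hz, hzu⟩
    have hvp : orderOf (v * x * v⁻¹) = p := (MulEquiv.orderOf_eq (MulAut.conj v) x).trans hxp
    have e := pPart_pow_eq_one P h.comm (hxp ▸ pow_orderOf_eq_one x) (hvp ▸ pow_orderOf_eq_one _)
      (hc x _ hxp hvp) hz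
    obtain ⟨c, rfl⟩ := isConj_iff.1 hzu
    rw [conj_pow] at e
    have : u ^ p = 1 := by simpa [mul_inv_eq_one, mul_eq_left] using e
    exact hgp (Subtype.ext (by simpa [u] using this)))
  have hRc : IsClassFunction G R := fun w v => by
    simp only [hR]
    refine if_congr ⟨?_, ?_⟩ rfl rfl
    · rintro ⟨z, hz, hzu⟩
      have := isPPart_conj hz v⁻¹
      rw [show v⁻¹ * (v * w * v⁻¹) * v⁻¹⁻¹ = w by group] at this
      exact ⟨_, this, hzu.trans (isConj_iff.2 ⟨v⁻¹, rfl⟩)⟩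
    · rintro ⟨z, hz, hzu⟩
      exact ⟨_, isPPart_conj hz v, hzu.trans (isConj_iff.2 ⟨v, rfl⟩)⟩
  have hq0 : (q : ℂ) ≠ 0 := Nat.cast_ne_zero.2 (by omega)
  have hG0 : (Nat.card G : ℂ) ≠ 0 := Nat.cast_ne_zero.2 Nat.card_pos.ne'
  have hcoef : ∀ θ : IrrCharacter G, (Nat.card G : ℂ) * classInner R (θ : G → ℂ) =
      (Nat.card G : ℂ) / q * if θ ∈ blk M then conj ((θ : G → ℂ) u) else 0 := by
    intro θ
    have e := congrArg conj (sum_section_free h hM (y := u) g.2 hu1 θ)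
    rw [map_mul, map_mul, map_natCast, map_natCast, map_sum, apply_ite conj, map_zero] at e
    rw [classInner, ← mul_assoc, mul_inv_cancel₀ hG0, one_mul, div_mul_eq_mul_div, eq_div_iff hq0,
      mul_comm, ← e]
    congr 1
    rw [sum_filter]
    exact sum_congr rfl fun w _ => by simp only [hR]; split_ifs <;> simp
  rw [sum_conj_products hRc] at hzero
  simp only [hcoef, mul_ite, mul_zero, ite_mul, zero_mul] at hzero
  rw [← sum_filter, show (univ.filter fun θ => θ ∈ (blk M : Finset (IrrCharacter G))) = blk M from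
    filter_univ_mem _] at hzero
  have hkey : ∑ θ ∈ (blk M : Finset (IrrCharacter G)),
      (θ : G → ℂ) x ^ 2 * conj ((θ : G → ℂ) u) / (θ : G → ℂ) 1 = 0 := by
    have hne : (Nat.card G : ℂ) / q ≠ 0 := div_ne_zero hG0 hq0
    apply mul_left_cancel₀ hne
    rw [mul_zero, ← hzero, mul_sum]
    exact sum_congr rfl fun θ _ => by ring
  -- the exceptional constants
  have hq1 : Nat.card (P : Subgroup G) ≠ 1 := hP1'
  have hcardY := E.card_Y h
  obtain ⟨ψ₀, hψ₀⟩ : ∃ ψ : Lin P, ψ ≠ 1 := Fintype.exists_ne_of_one_lt_card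
    (by rw [h.card_lin]; omega) 1
  have hnorm := E.norm_eq h hM hq1 hψ₀
  have hone := E.one_mem_X h hM hm
  have hc1 : E.c (oneChar G) = 0 := by
    have h1 := E.mult_eq (oneChar G) one_mem_principalBlock ψ₀ hψ₀
    rw [if_neg ((E.mem_X.1 hone).2 ψ₀ hψ₀)] at h1
    have hz : mult (oneChar G) ψ₀ = 0 := by
      have := mult_spec (oneChar G) ψ₀
      rw [show (fun w : ↥(P : Subgroup G) => (oneChar G : G → ℂ) w) =
        (lc (1 : Lin P) : ↥(P : Subgroup G) → ℂ) from funext fun w => by simp [oneChar, lc_apply],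
        classInner_irr_ne (fun he => hψ₀ (lc_injective he).symm)] at this
      exact_mod_cast this.symm
    rw [hz] at h1; simpa using h1.symm
  have hb1 : E.base (oneChar G) = 1 := by
    have hd := degree_eq h E ((mem_blk M).2 (one_mem_principalBlock (M := M)))
    have hf : (fib E (oneChar G)).card = 0 := card_eq_zero.2 (filter_eq_empty_iff.2 fun ψ _ hψ =>
      (E.mem_X.1 hone).2 ψ hψ.1 hψ.2)
    rw [hf, hc1, show charDegree (oneChar G : G → ℂ) = 1 by simp [charDegree, oneChar]] at hd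
    simpa using hd.symm
  have hsqX : 1 + ∑ θ ∈ E.X.erase (oneChar G), E.base θ ^ 2 = ∑ θ ∈ E.X, E.base θ ^ 2 := by
    rw [← add_sum_erase _ _ hone, hb1]; ring
  rw [← hsqX] at hnorm
  have hYbig : (e : ℤ) + 2 ≤ E.Y.card := by
    have h1 : (e + 1) * e < E.Y.card * e := by
      rw [hcardY]
      have : (e + 1) ^ 2 = (e + 1) * e + e + 1 := by ring
      omega
    exact_mod_cast Nat.succ_le_of_lt (Nat.lt_of_mul_lt_mul_right h1)
  have hX0 : 0 ≤ ∑ θ ∈ E.X.erase (oneChar G), E.base θ ^ 2 := sum_nonneg fun _ _ => sq_nonneg _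
  have hbY : E.base (E.ζ ψ₀) = 0 := by
    by_contra hne
    have h1 : 1 ≤ E.base (E.ζ ψ₀) ^ 2 := Int.add_one_le_iff.2 (sq_pos_iff.2 hne)
    nlinarith [sq_nonneg (E.base (E.ζ ψ₀) - E.δ)]
  have hbYall : ∀ θ ∈ E.Y, E.base θ = 0 := fun θ hθ => by
    obtain ⟨a, ha, rfl⟩ := E.mem_Y.1 hθ
    rw [E.base_eq h hM hq1 ha hψ₀, hbY]
  have hX2 : ∑ θ ∈ E.X.erase (oneChar G), E.base θ ^ 2 = (e : ℤ) - 1 := by
    rw [hbY] at hnorm
    rcases E.sign with hs | hs <;> rw [hs] at hnorm <;> linarith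
  -- degrees
  set D : ℤ := (charDegree (E.ζ ψ₀ : G → ℂ) : ℤ) with hD
  have hDeq : ∀ θ ∈ E.Y, (θ : G → ℂ) 1 = (D : ℂ) := fun θ hθ => by
    obtain ⟨a, ha, rfl⟩ := E.mem_Y.1 hθ
    rw [E.regular_eq h hM ha hψ₀ (by simp [hp.ne_one])]
    obtain ⟨d, hd⟩ := isCharacter_degree (isCharacter_irr (E.ζ ψ₀))
    simp [hD, charDegree, hd]
  have hfibY : (fib E (E.ζ ψ₀)).card = e := by
    rw [hedef, ← h.card_rel hψ₀, ← E.filter_eq_rel hψ₀]; rfl
  have hDc : D = (q : ℤ) * E.c (E.ζ ψ₀) + E.δ * e := by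
    rw [hD, degree_eq h E ((mem_blk M).2 (E.mem ψ₀ hψ₀)), hbY, hfibY]; ring
  have hc0 : 0 ≤ E.c (E.ζ ψ₀) := by
    obtain ⟨a, ha, hne⟩ : ∃ a : Lin P, a ≠ 1 ∧ E.ζ a ≠ E.ζ ψ₀ := by
      obtain ⟨θ, hθ, hne⟩ := Finset.exists_mem_ne (s := E.Y) (by omega) (E.ζ ψ₀)
      obtain ⟨a, ha, rfl⟩ := E.mem_Y.1 hθ
      exact ⟨a, ha, hne⟩
    have h1 := E.mult_eq _ (E.mem ψ₀ hψ₀) a ha
    rw [if_neg hne, mul_zero, add_zero] at h1
    rw [← h1]; positivity
  -- the sum over the others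
  set S : ℝ := ∑ θ ∈ E.X.erase (oneChar G), (E.base θ : ℝ) ^ 3 / (charDegree (θ : G → ℂ) : ℝ) with hS
  have heq : 1 + S - (E.δ : ℝ) * (e : ℝ) ^ 2 / (D : ℝ) = 0 := by
    apply Complex.ofReal_injective
    push_cast [hS]
    rw [E.sum_sdiff_Y (fun θ => (θ : G → ℂ) x ^ 2 * conj ((θ : G → ℂ) u) / (θ : G → ℂ) 1)] at hkey
    have hY' : ∑ θ ∈ E.Y, (θ : G → ℂ) x ^ 2 * conj ((θ : G → ℂ) u) / (θ : G → ℂ) 1 =
        -((E.δ : ℂ) * (e : ℂ) ^ 2) / (D : ℂ) := by
      rw [sum_congr rfl fun θ hθ => by rw [hDeq θ hθ], ← sum_div]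
      congr 1
      exact sum_Y_cube h E hbYall (x := ⟨x, hxP⟩) (u := g) (Subtype.ext (by
        simpa using hxp ▸ pow_orderOf_eq_one x)) (fun e => hx1 (congrArg Subtype.val e)) hgp (by omega)
    rw [hY', ← add_sum_erase _ _ hone] at hkey
    rw [← hkey]
    have hval : ∀ θ ∈ E.X, (θ : G → ℂ) x ^ 2 * conj ((θ : G → ℂ) u) / (θ : G → ℂ) 1 =
        (E.base θ : ℂ) ^ 3 / (charDegree (θ : G → ℂ) : ℂ) := by
      intro θ hθ
      have hpart : ∀ w ∈ (P : Subgroup G), IsPPart p w w := fun w hw =>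
        ⟨1, mul_one w, Commute.one_right w, h.orderOf_mem hw, by simp [hp.ne_one]⟩
      rw [E.value_X h hM hθ (hpart x hxP) hxP hx1, E.value_X h hM hθ (hpart u g.2) g.2 hu1, map_intCast]
      obtain ⟨d, hd⟩ := isCharacter_degree (isCharacter_irr θ)
      rw [hd, charDegree, hd, Complex.natCast_re, Nat.floor_natCast]
      ring
    rw [hval _ hone, hb1, sum_congr rfl fun θ hθ => hval θ (mem_of_mem_erase hθ)]
    simp [charDegree, oneChar]
    ring
  have hterm : ∀ θ ∈ E.X.erase (oneChar G),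
      -((E.base θ : ℝ) ^ 2) / ((q : ℝ) - 1) ≤ (E.base θ : ℝ) ^ 3 / (charDegree (θ : G → ℂ) : ℝ) ∧
        (E.base θ : ℝ) ^ 3 / (charDegree (θ : G → ℂ) : ℝ) ≤ (E.base θ : ℝ) ^ 2 / 2 := by
    intro θ hθ
    obtain ⟨hθ1, hθX⟩ := mem_erase.1 hθ
    obtain ⟨hθB, hθY⟩ := E.mem_X.1 hθX
    have hd := degree_eq h E ((mem_blk M).2 hθB)
    have hf : (fib E θ).card = 0 := card_eq_zero.2 (filter_eq_empty_iff.2 fun ψ _ hψ =>
      hθY ψ hψ.1 hψ.2)
    rw [hf, Nat.cast_zero, mul_zero, add_zero, ← hq] at hd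
    have h1 := E.mult_eq θ hθB ψ₀ hψ₀
    rw [if_neg (hθY ψ₀ hψ₀), mul_zero, add_zero] at h1
    have hcpos : 1 ≤ E.c θ := by
      by_contra hle
      have hcz : E.c θ = 0 := by have : (0 : ℤ) ≤ (mult θ ψ₀ : ℤ) := by positivity
                                 omega
      refine hθ1 (AbelianFree.eq_one_of_value (t := x) (fun K hK hxK =>
        (Subgroup.Normal.eq_bot_or_eq_top hK).resolve_left fun h' => hx1 (Subgroup.mem_bot.1 (h' ▸ hxK))) ?_)
      have hpart : IsPPart p x x := ⟨1, mul_one x, Commute.one_right x, h.orderOf_mem hxP, by simp [hp.ne_one]⟩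
      rw [E.value_X h hM hθX hpart hxP hx1]
      obtain ⟨d, hd'⟩ := isCharacter_degree (isCharacter_irr θ)
      rw [hcz, mul_zero, zero_add, charDegree, hd', Complex.natCast_re, Nat.floor_natCast] at hd
      rw [hd']
      exact_mod_cast hd.symm
    have hb : (0 : ℤ) ≤ E.base θ + E.c θ := by
      have : (0 : ℤ) ≤ (mult θ (1 : Lin P) : ℤ) := by positivity
      rw [Coherent.base]; linarith
    have hbsq : E.base θ ^ 2 ≤ (e : ℤ) - 1 :=
      hX2 ▸ single_le_sum (fun i _ => sq_nonneg (E.base i)) hθ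
    have hbq : E.base θ ≤ q ∧ -(E.base θ) < q := by
      have : (e : ℤ) < q := by exact_mod_cast (show e < q by omega)
      constructor <;> nlinarith
    set b : ℝ := (E.base θ : ℝ)
    set d : ℝ := (charDegree (θ : G → ℂ) : ℝ)
    have hdR : d = (q : ℝ) * (E.c θ : ℝ) + b := by
      have := congrArg (Int.cast : ℤ → ℝ) hd
      push_cast at this; exact this
    have hcR : (1 : ℝ) ≤ (E.c θ : ℝ) := by exact_mod_cast hcpos
    have hbR : (0 : ℝ) ≤ b + (E.c θ : ℝ) := by simp only [b]; exact_mod_cast hb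
    have hbqR : b ≤ q ∧ -b < q := ⟨by simp only [b]; exact_mod_cast hbq.1, by simp only [b]; exact_mod_cast hbq.2⟩
    have hqR : (1 : ℝ) < q := by exact_mod_cast (show 1 < q by omega)
    have hdpos : 0 < d := by
      rw [hdR]; nlinarith
    rcases le_or_gt 0 b with hb0 | hb0
    · refine ⟨le_trans (div_nonpos_of_nonpos_of_nonneg (by nlinarith) (by linarith))
        (by positivity), ?_⟩
      rw [div_le_div_iff₀ hdpos (by norm_num)]
      have : 2 * b ≤ d := by rw [hdR]; nlinarith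
      nlinarith [mul_le_mul_of_nonneg_left this (sq_nonneg b)]
    · refine ⟨?_, le_trans (div_nonpos_of_nonpos_of_nonneg ?_ hdpos.le) (by positivity)⟩
      · rw [div_le_div_iff₀ (by linarith) hdpos]
        have : -b * ((q : ℝ) - 1) ≤ d := by rw [hdR]; nlinarith
        nlinarith [mul_le_mul_of_nonneg_left this (sq_nonneg b)]
      · nlinarith [mul_nonpos_of_nonneg_of_nonpos (sq_nonneg b) hb0.le]
  have hX2R : ∑ θ ∈ E.X.erase (oneChar G), (E.base θ : ℝ) ^ 2 = (e : ℝ) - 1 := by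
    exact_mod_cast hX2
  have hlow : -((e : ℝ) - 1) / ((q : ℝ) - 1) ≤ S := by
    refine le_trans (le_of_eq ?_) (sum_le_sum fun θ hθ => (hterm θ hθ).1)
    rw [← sum_div, sum_neg_distrib, hX2R]
  have hupp : S ≤ ((e : ℝ) - 1) / 2 := by
    refine (sum_le_sum fun θ hθ => (hterm θ hθ).2).trans (le_of_eq ?_)
    rw [← sum_div, hX2R]
  have heR : (2 : ℝ) ≤ e := by exact_mod_cast he2
  have hqeR : ((e : ℝ) + 1) ^ 2 ≤ q := by exact_mod_cast hqe
  have hqm : (0 : ℝ) < (q : ℝ) - 1 := by nlinarith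
  have hsmall : ((e : ℝ) - 1) / ((q : ℝ) - 1) ≤ 1 / ((e : ℝ) + 2) := by
    rw [div_le_div_iff₀ hqm (by linarith)]; nlinarith
  have hDR : (D : ℝ) = (q : ℝ) * (E.c (E.ζ ψ₀) : ℝ) + (E.δ : ℝ) * e := by
    rw [hDc]; push_cast; ring
  have hDpos : (0 : ℝ) ≤ (D : ℝ) := by rw [hD]; positivity
  rw [neg_div] at hlow
  rcases E.sign with hs | hs
  · rw [hs, Int.cast_one, one_mul] at heq hDR
    rcases eq_or_lt_of_le hc0 with hcz | hcz
    · rw [← hcz, Int.cast_zero, mul_zero, zero_add] at hDR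
      rw [hDR, sq, mul_div_assoc, div_self (by linarith), mul_one] at heq
      linarith
    · have hc1R : (1 : ℝ) ≤ (E.c (E.ζ ψ₀) : ℝ) := by exact_mod_cast hcz
      have hD2 : (q : ℝ) + e ≤ (D : ℝ) := by rw [hDR]; nlinarith
      have h1 : (e : ℝ) ^ 2 / (D : ℝ) ≤ (e : ℝ) / ((e : ℝ) + 3) := by
        rw [div_le_div_iff₀ (by linarith) (by linarith)]; nlinarith
      have h2 : (e : ℝ) / ((e : ℝ) + 3) + 1 / ((e : ℝ) + 2) < 1 := by
        rw [div_add_div _ _ (by linarith) (by linarith), div_lt_one (by positivity)]; nlinarith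
      linarith
  · rw [hs] at heq
    push_cast at heq
    have h1 : 0 ≤ (e : ℝ) ^ 2 / (D : ℝ) := div_nonneg (sq_nonneg _) hDpos
    have h2 : 1 / ((e : ℝ) + 2) < 1 := by rw [div_lt_one (by linarith)]; linarith
    rw [neg_mul, one_mul, neg_div, sub_neg_eq_add] at heq
    linarith

end CfsgLib.Block.PairSolvable
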