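import Cfsg.Agent.Lib.Block.PairSolvable.LargeCyclic

/-!
# A Sylow subgroup of order `p` in a simple group

If two elements of order `p` always generate a `p`-solvable subgroup then at most a `1 / (p - 1)` part of
the products of two of them is regular, while the character count gives more.
-/

set_option autoImplicit false
set_option linter.unusedSectionVars false
set_option maxHeartbeats 800000

open Finset
open scoped ComplexConjugate

namespace CfsgLib.Block.PairSolvable

open Cfsg CfsgLib.Char CfsgLib.Block CfsgLib.Block.AbelianFree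

universe u

variable {p : ℕ} [Fact p.Prime] {G : Type u} [Group G] [Fintype G] {P : Sylow p G}

/-- At most a `1 / (p - 1)` part of the elements of order `p` has regular product with `x`. -/
theorem regular_products_order_le (hP : IsMulCommutative (P : Subgroup G)) {x : G}
    (hx : orderOf x = p)
    (hc : ∀ x y : G, orderOf x = p → orderOf y = p →
      Cfsg.IsPSolvable p ↥(Subgroup.closure ({x, y} : Set G))) :
    Nat.card {y : G // orderOf y = p ∧ ¬ p ∣ orderOf (x * y)} * (p - 1) ≤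
      Nat.card {y : G // orderOf y = p} := by
  have hp : p.Prime := Fact.out
  have hpw : ∀ (y : G) (j : (ZMod p)ˣ), orderOf y = p → orderOf (y ^ (j : ZMod p).val) = p := by
    intro y j hy
    rw [Nat.Coprime.orderOf_pow, hy]
    rw [hy]
    exact hp.coprime_iff_not_dvd.2 fun hd => j.ne_zero (by
      rw [← ZMod.natCast_zmod_val (j : ZMod p), ZMod.natCast_eq_zero_iff]; exact hd)
  have hback : ∀ (y : G) (j : (ZMod p)ˣ), orderOf y = p →
      (y ^ (j : ZMod p).val) ^ ((j⁻¹ : (ZMod p)ˣ) : ZMod p).val = y := by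
    intro y j hy
    conv_rhs => rw [← pow_one y]
    rw [← pow_mul, pow_eq_pow_iff_modEq, hy, ← ZMod.natCast_eq_natCast_iff]
    rw [Nat.cast_mul, ZMod.natCast_zmod_val, ZMod.natCast_zmod_val, Units.mul_inv, Nat.cast_one]
  let f : {y : G // orderOf y = p ∧ ¬ p ∣ orderOf (x * y)} × (ZMod p)ˣ → {y : G // orderOf y = p} :=
    fun a => ⟨(a.1 : G) ^ (a.2 : ZMod p).val, hpw _ _ a.1.2.1⟩
  have hf : Function.Injective f := by
    rintro ⟨⟨y, hy, hyr⟩, j⟩ ⟨⟨y', hy', hyr'⟩, j'⟩ h
    have e : y ^ (j : ZMod p).val = y' ^ (j' : ZMod p).val := congrArg Subtype.val h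
    set z := y ^ (j : ZMod p).val with hz
    have hzp : orderOf z = p := hpw _ _ hy
    have key := pow_eq_of_regular_products P hP (x := x) (y := z) ⟨1, by rw [hx, pow_one]⟩
      ⟨1, by rw [hzp, pow_one]⟩ (hc x z hx hzp)
      (i := ((j⁻¹ : (ZMod p)ˣ) : ZMod p).val) (j := ((j'⁻¹ : (ZMod p)ˣ) : ZMod p).val)
      (by rw [hz, hback _ _ hy]; exact hyr)
      (by rw [e, hback _ _ hy']; exact hyr')
    have hyy : y = y' := by rw [← hback y j hy, ← hz, key, e, hback _ _ hy']
    subst hyy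
    refine Prod.ext rfl (Units.ext (ZMod.val_injective p ?_))
    have hm := pow_eq_pow_iff_modEq.1 e
    rw [hy] at hm
    exact Nat.ModEq.eq_of_lt_of_lt hm (ZMod.val_lt _) (ZMod.val_lt _)
  have h := Nat.card_le_card_of_injective f hf
  rwa [Nat.card_prod, Nat.card_units, Nat.card_zmod] at h

open scoped Classical in
/-- Conjugates of the nontrivial elements of a Sylow subgroup of order `p`. -/
theorem sum_pairs (hcard : Nat.card (P : Subgroup G) = p) (f : G → ℂ) {A K : Finset G}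
    (hAmem : ∀ u, u ∈ A ↔ u ∈ (P : Subgroup G) ∧ u ≠ 1) (hKmem : ∀ y, y ∈ K ↔ orderOf y = p) :
    ∑ u ∈ A, ∑ v : G, f (v * u * v⁻¹) = (Nat.card (nor P) : ℂ) * ∑ y ∈ K, f y := by
  have hp : p.Prime := Fact.out
  have hAord : ∀ u ∈ A, orderOf u = p := fun u hu => by
    obtain ⟨huP, hu1⟩ := (hAmem u).1 hu
    refine (Nat.dvd_prime hp).1 ?_ |>.resolve_left fun e => hu1 (orderOf_eq_one_iff.1 e)
    have := orderOf_dvd_natCard (⟨u, huP⟩ : (P : Subgroup G))
    rwa [Subgroup.orderOf_mk, hcard] at this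
  have hzp : ∀ u ∈ A, Subgroup.zpowers u = (P : Subgroup G) := fun u hu =>
    Subgroup.eq_of_le_of_card_ge (Subgroup.zpowers_le.2 ((hAmem u).1 hu).1)
      (by rw [hcard, Nat.card_zpowers, hAord u hu])
  have hmaps : ∀ a ∈ A ×ˢ (univ : Finset G), a.2 * a.1 * a.2⁻¹ ∈ K := fun a ha =>
    (hKmem _).2 ((MulEquiv.orderOf_eq (MulAut.conj a.2) a.1).trans
      (hAord _ (mem_product.1 ha).1))
  rw [← sum_product' A univ (fun u v => f (v * u * v⁻¹)), ← sum_fiberwise_of_maps_to hmaps, mul_sum]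
  refine sum_congr rfl fun y hy => ?_
  rw [sum_congr rfl fun a ha => by rw [(mem_filter.1 ha).2], sum_const, nsmul_eq_mul]
  congr 2
  have hyp : orderOf y = p := (hKmem y).1 hy
  obtain ⟨Q, hQ⟩ := (IsPGroup.of_card (p := p) (G := Subgroup.zpowers y) (n := 1)
    (by rw [Nat.card_zpowers, hyp, pow_one])).exists_le_sylow
  obtain ⟨g, rfl⟩ := MulAction.exists_smul_eq G P Q
  have hy' := hQ (Subgroup.mem_zpowers y)
  rw [Sylow.coe_subgroup_smul, Subgroup.mem_smul_pointwise_iff_exists] at hy'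
  obtain ⟨u₀, hu₀, rfl⟩ := hy'
  have hu₀A : u₀ ∈ A := (hAmem _).2 ⟨hu₀, by
    rintro rfl
    rw [smul_one, orderOf_one] at hyp
    exact hp.ne_one hyp.symm⟩
  have := Fintype.ofFinite ↥(nor P)
  rw [Nat.card_eq_fintype_card, ← card_univ]
  have hsmul : MulAut.conj g • u₀ = g * u₀ * g⁻¹ := rfl
  refine card_bij' (fun a ha => (⟨g⁻¹ * a.2, ?_⟩ : nor P))
    (fun n _ => ((n : G)⁻¹ * u₀ * n, g * n)) (fun _ _ => mem_univ _) ?_ ?_ (fun n _ => Subtype.ext (by simp))
  · obtain ⟨h1, h2⟩ := mem_filter.1 ha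
    rw [hsmul] at h2
    have hn : MulAut.conj (g⁻¹ * a.2) a.1 = u₀ := by
      rw [MulAut.conj_apply, show g⁻¹ * a.2 * a.1 * (g⁻¹ * a.2)⁻¹ = g⁻¹ * (a.2 * a.1 * a.2⁻¹) * g by group,
        h2]
      group
    have hmap : (P : Subgroup G).map (MulAut.conj (g⁻¹ * a.2)).toMonoidHom = (P : Subgroup G) := by
      conv_lhs => rw [← hzp _ (mem_product.1 h1).1]
      rw [MonoidHom.map_zpowers]
      rw [show (MulAut.conj (g⁻¹ * a.2)).toMonoidHom a.1 = u₀ from hn, hzp _ hu₀A]
    refine Subgroup.mem_normalizer_iff.2 fun w => ?_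
    constructor
    · intro hw
      have := Subgroup.mem_map_of_mem (MulAut.conj (g⁻¹ * a.2)).toMonoidHom hw
      rwa [hmap] at this
    · intro hw
      rw [← hmap] at hw
      obtain ⟨w', hw', e⟩ := hw
      have : w' = w := (MulAut.conj (g⁻¹ * a.2)).injective e
      exact this ▸ hw'
  · intro n _
    refine mem_filter.2 ⟨mem_product.2 ⟨(hAmem _).2 ⟨?_, ?_⟩, mem_univ _⟩, ?_⟩
    · have := (Subgroup.mem_normalizer_iff.1 ((nor P).inv_mem n.2) u₀).1 hu₀
      simpa using this
    · intro e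
      exact ((hAmem _).1 hu₀A).2 (by
        have := congrArg (fun w => (n : G) * w * (n : G)⁻¹) e
        simpa [mul_assoc] using this)
    · rw [hsmul]; group
  · intro a ha
    have h2 := (mem_filter.1 ha).2
    rw [hsmul] at h2
    refine Prod.ext ?_ (by simp)
    have e : g⁻¹ * (a.2 * a.1 * a.2⁻¹) * g = u₀ := by rw [h2]; group
    simp only
    calc (g⁻¹ * a.2)⁻¹ * u₀ * (g⁻¹ * a.2)
        = (g⁻¹ * a.2)⁻¹ * (g⁻¹ * (a.2 * a.1 * a.2⁻¹) * g) * (g⁻¹ * a.2) := by rw [e]
      _ = a.1 := by group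

variable [IsSimpleGroup G] [DecidableEq G] [Fintype (IrrCharacter G)] [Fintype ↥(P : Subgroup G)]
  [Fintype (Lin P)]

/-- No simple group has a Sylow subgroup of order `p` with proper nontrivial automizer and all pairs of
elements of order `p` generating `p`-solvable subgroups. -/
theorem false_of_prime_cyclic (hcard : Nat.card (P : Subgroup G) = p)
    (he2 : 2 ≤ (cen P).relIndex (nor P)) (he : (cen P).relIndex (nor P) + 1 < p)
    (hc : ∀ x y : G, orderOf x = p → orderOf y = p →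
      Cfsg.IsPSolvable p ↥(Subgroup.closure ({x, y} : Set G))) : False := by
  classical
  have hp : p.Prime := Fact.out
  have h := free_of_cyclic (P := P) (isCyclic_of_prime_card hcard)
  obtain ⟨M, hM⟩ := exists_pModular hp
  have := hM.2.1
  set e := (cen P).relIndex (nor P) with hedef
  have hm : e + 1 < Nat.card (P : Subgroup G) := by rw [hcard]; exact he
  obtain ⟨E⟩ := h.exists_coherent hM hm
  set A := univ.filter (fun u : G => u ∈ (P : Subgroup G) ∧ u ≠ 1) with hA
  set K := univ.filter (fun y : G => orderOf y = p) with hK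
  have hAK : ∀ u ∈ A, orderOf u = p := fun u hu => by
    obtain ⟨-, huP, hu1⟩ := mem_filter.1 hu
    refine (Nat.dvd_prime hp).1 ?_ |>.resolve_left fun e => hu1 (orderOf_eq_one_iff.1 e)
    have := orderOf_dvd_natCard (⟨u, huP⟩ : (P : Subgroup G))
    rwa [Subgroup.orderOf_mk, hcard] at this
  have hAcard : A.card = p - 1 := by
    have e2 : A = (univ.filter fun u : G => u ∈ (P : Subgroup G)).erase 1 := by
      ext u; simp [hA, and_comm]
    rw [e2, card_erase_of_mem (by simp), ← Fintype.card_subtype, ← Nat.card_eq_fintype_card]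
    exact congrArg (· - 1) hcard
  have hG0 : (Nat.card G : ℂ) ≠ 0 := Nat.cast_ne_zero.2 Nat.card_pos.ne'
  have hN0 : (Nat.card (nor P) : ℝ) ≠ 0 := Nat.cast_ne_zero.2 Nat.card_pos.ne'
  -- the number of elements of order `p`
  have hKcard : (Nat.card (nor P) : ℂ) * K.card = ((p : ℂ) - 1) * Nat.card G := by
    have h1 := sum_pairs (P := P) hcard (fun _ => (1 : ℂ)) (A := A) (K := K) (fun u => by simp [hA]) (fun y => by simp [hK])
    simp only [sum_const, nsmul_eq_mul, mul_one] at h1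
    rw [← h1, hAcard, card_univ, ← Nat.card_eq_fintype_card, Nat.cast_sub hp.one_le, Nat.cast_one]
  -- regular products
  set R : G → ℂ := fun g => if p ∣ orderOf g then 0 else 1 with hR
  have hRc : IsClassFunction G R := fun g h => by
    simp only [hR]
    rw [show orderOf (h * g * h⁻¹) = orderOf g from MulEquiv.orderOf_eq (MulAut.conj h) g]
  set Tot : ℂ := ∑ x ∈ A, ∑ u ∈ A, ∑ v : G, R (x * (v * u * v⁻¹)) with hTot
  obtain ⟨t, ht, htle⟩ : ∃ t : ℕ, Tot = (t : ℂ) ∧ t ≤ (p - 1) * Nat.card G := by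
    have key : ∀ x ∈ A, ∃ t : ℕ, ∑ u ∈ A, ∑ v : G, R (x * (v * u * v⁻¹)) = (t : ℂ) ∧
        t ≤ Nat.card G := by
      intro x hx
      rw [sum_pairs (P := P) hcard (fun y => R (x * y)) (K := K) (fun u => by simp [hA]) (fun y => by simp [hK])]
      refine ⟨Nat.card (nor P) * (K.filter fun y => ¬ p ∣ orderOf (x * y)).card, ?_, ?_⟩
      · simp only [hR]
        rw [sum_ite, sum_const_zero, zero_add, sum_const, nsmul_eq_mul, mul_one, Nat.cast_mul]
      · have hle := regular_products_order_le (P := P) h.comm (hAK x hx) hc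
        rw [Nat.card_eq_fintype_card (α := {y : G // orderOf y = p}), Fintype.card_subtype,
          Nat.card_eq_fintype_card (α := {y : G // orderOf y = p ∧ ¬ p ∣ orderOf (x * y)}),
          Fintype.card_subtype] at hle
        rw [hK, filter_filter]
        have hNK : Nat.card (nor P) * K.card = (p - 1) * Nat.card G := by
          have := hKcard
          rw [← Nat.cast_one, ← Nat.cast_sub hp.one_le] at this
          exact_mod_cast this
        have hp1 : 0 < p - 1 := by have := hp.two_le; omega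
        refine Nat.le_of_mul_le_mul_right ?_ hp1
        rw [mul_assoc, mul_comm (Nat.card G) (p - 1), ← hNK]
        exact Nat.mul_le_mul_left _ hle
    choose t ht htle using key
    refine ⟨∑ x : {x // x ∈ A}, t x x.2, ?_, ?_⟩
    · rw [hTot, Nat.cast_sum, ← sum_attach]
      exact sum_congr rfl fun x _ => ht x x.2
    · refine (sum_le_sum (g := fun _ => Nat.card G) fun (x : {x // x ∈ A}) _ => htle x x.2).trans (le_of_eq ?_)
      rw [sum_const, card_univ, Fintype.card_coe, hAcard, smul_eq_mul]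
  -- the sums over `P`
  set U : IrrCharacter G → ℤ := fun θ =>
    ((p : ℤ) - 1) * E.base θ - E.δ * (fib E θ).card with hUdef
  have hU : ∀ θ ∈ (blk M : Finset (IrrCharacter G)), ∑ u ∈ A, (θ : G → ℂ) u = (U θ : ℂ) := by
    intro θ hθ
    have e1 := sum_values_eq h E hθ
    rw [hcard] at e1
    rw [hUdef, ← e1]
    refine sum_bij' (fun u hu => (⟨u, (mem_filter.1 hu).2.1⟩ : ↥(P : Subgroup G)))
      (fun w _ => (w : G)) (fun u hu => mem_erase.2 ⟨fun e => (mem_filter.1 hu).2.2
        (congrArg Subtype.val e), mem_univ _⟩)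
      (fun w hw => mem_filter.2 ⟨mem_univ _, w.2, fun e => ne_of_mem_erase hw (Subtype.ext e)⟩)
      (fun _ _ => rfl) (fun _ _ => rfl) (fun _ _ => rfl)
  have hcoef : ∀ θ : IrrCharacter G, (Nat.card G : ℂ) * classInner R (θ : G → ℂ) =
      (Nat.card G : ℂ) * ((if θ = oneChar G then 1 else 0) -
        ((p : ℂ) * e)⁻¹ * if θ ∈ (blk M : Finset (IrrCharacter G)) then (U θ : ℂ) else 0) := by
    intro θ
    have htot : ∑ g : G, conj ((θ : G → ℂ) g) = (Nat.card G : ℂ) * if θ = oneChar G then 1 else 0 := by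
      have h := classInner_irr (oneChar G) θ
      rw [classInner] at h
      rw [show (if θ = oneChar G then (1 : ℂ) else 0) = if oneChar G = θ then 1 else 0 from
        if_congr eq_comm rfl rfl, ← h, ← mul_assoc, mul_inv_cancel₀ hG0, one_mul]
      exact sum_congr rfl fun g _ => by simp [oneChar]
    have hdouble : ∑ u ∈ A, ∑ g ∈ univ.filter (fun g => ∃ z, IsPPart p g z ∧ IsConj u z),
        conj ((θ : G → ℂ) g) = (e : ℂ) * ∑ g ∈ univ.filter (fun g : G => p ∣ orderOf g),
          conj ((θ : G → ℂ) g) := by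
      simp only [sum_filter]
      rw [sum_comm, mul_sum]
      refine sum_congr rfl fun g _ => ?_
      rw [← sum_filter]
      split_ifs with hg
      · obtain ⟨z, hz⟩ := exists_isPPart hp g
        obtain ⟨y', hy', hcy, ⟨k, hk⟩, hyr⟩ := id hz
        have hz1 : z ≠ 1 := fun e => not_dvd_of_isPPart_one (e ▸ hz) hg
        obtain ⟨Q, hQ⟩ := (IsPGroup.of_card (p := p) (G := Subgroup.zpowers z) (n := k)
          (by rw [Nat.card_zpowers, hk])).exists_le_sylow
        obtain ⟨c, rfl⟩ := MulAction.exists_smul_eq G P Q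
        have hzQ := hQ (Subgroup.mem_zpowers z)
        rw [Sylow.coe_subgroup_smul, Subgroup.mem_smul_pointwise_iff_exists] at hzQ
        obtain ⟨u₀, hu₀, rfl⟩ := hzQ
        have hu₀1 : u₀ ≠ 1 := by rintro rfl; exact hz1 (smul_one _)
        have hfilt : (A.filter fun u => ∃ z, IsPPart p g z ∧ IsConj u z) =
            univ.filter fun u : G => u ∈ (P : Subgroup G) ∧ IsConj u₀ u := by
          ext u
          simp only [hA, mem_filter, mem_univ, true_and]
          constructor
          · rintro ⟨⟨huP, -⟩, z', hz', hc'⟩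
            obtain rfl := isPPart_unique hp hz' hz
            exact ⟨huP, (isConj_iff.2 ⟨c, rfl⟩ : IsConj u₀ _).trans hc'.symm⟩
          · rintro ⟨huP, hc'⟩
            refine ⟨⟨huP, fun e => hu₀1 ?_⟩, _, hz, hc'.symm.trans (isConj_iff.2 ⟨c, rfl⟩)⟩
            exact isConj_one_left.1 (e ▸ hc')
        rw [hfilt, sum_const, nsmul_eq_mul, card_fused h hu₀ hu₀1]
      · rw [mul_zero, sum_eq_zero]
        intro u hu
        obtain ⟨hu1, z, hz, hcz⟩ := mem_filter.1 hu
        obtain rfl := isPPart_unique hp hz (isPPart_one_of_not_dvd hg)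
        exact absurd (isConj_one_left.1 hcz) (mem_filter.1 hu1).2.2
    have hsec : (p : ℂ) * ((e : ℂ) * ∑ g ∈ univ.filter (fun g : G => p ∣ orderOf g),
        conj ((θ : G → ℂ) g)) =
        (Nat.card G : ℂ) * if θ ∈ (blk M : Finset (IrrCharacter G)) then (U θ : ℂ) else 0 := by
      rw [← hdouble, mul_sum]
      have h1 : ∀ u ∈ A, (p : ℂ) * ∑ g ∈ univ.filter (fun g => ∃ z, IsPPart p g z ∧ IsConj u z),
          conj ((θ : G → ℂ) g) = (Nat.card G : ℂ) *
            if θ ∈ (blk M : Finset (IrrCharacter G)) then conj ((θ : G → ℂ) u) else 0 := by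
        intro u hu
        have h2 := congrArg conj (sum_section_free h hM (mem_filter.1 hu).2.1 (mem_filter.1 hu).2.2 θ)
        rw [map_mul, map_mul, map_natCast, map_natCast, map_sum, apply_ite conj, map_zero, hcard] at h2
        refine Eq.trans (congrArg₂ (· * ·) rfl ?_) h2
        refine Finset.sum_congr (Finset.ext fun g => ?_) fun _ _ => rfl
        simp only [Finset.mem_filter]
      rw [sum_congr rfl h1, ← mul_sum]
      congr 1
      split_ifs with hθ
      · rw [← map_sum, hU θ hθ, map_intCast]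
      · simp
    have hsplit : (Nat.card G : ℂ) * classInner R (θ : G → ℂ) =
        ∑ g : G, conj ((θ : G → ℂ) g) -
          ∑ g ∈ univ.filter (fun g : G => p ∣ orderOf g), conj ((θ : G → ℂ) g) := by
      rw [classInner, ← mul_assoc, mul_inv_cancel₀ hG0, one_mul, sum_filter, ← sum_sub_distrib]
      refine sum_congr rfl fun g _ => ?_
      simp only [hR]
      split_ifs <;> simp
    have hpe : (p : ℂ) * e ≠ 0 := mul_ne_zero (Nat.cast_ne_zero.2 hp.ne_zero) (Nat.cast_ne_zero.2 (by omega))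
    rw [hsplit, htot, mul_sub, mul_left_comm (Nat.card G : ℂ) ((p : ℂ) * e)⁻¹, ← hsec, ← mul_assoc (p : ℂ),
      ← mul_assoc ((p : ℂ) * e)⁻¹, inv_mul_cancel₀ hpe, one_mul]
  -- the trivial character
  have hone := E.one_mem_X h hM hm
  have hfib1 : ∀ θ ∈ E.X, (fib E θ).card = 0 := fun θ hθ => card_eq_zero.2
    (filter_eq_empty_iff.2 fun ψ _ hψ => (E.mem_X.1 hθ).2 ψ hψ.1 hψ.2)
  obtain ⟨ψ₀, hψ₀⟩ : ∃ ψ : Lin P, ψ ≠ 1 := Fintype.exists_ne_of_one_lt_card
    (by rw [h.card_lin]; omega) 1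
  have hc1 : E.c (oneChar G) = 0 := by
    have h1 := E.mult_eq (oneChar G) one_mem_principalBlock ψ₀ hψ₀
    rw [if_neg ((E.mem_X.1 hone).2 ψ₀ hψ₀)] at h1
    have hz : mult (oneChar G) ψ₀ = 0 := by
      have := mult_spec (oneChar G) ψ₀
      rw [show (fun w : ↥(P : Subgroup G) => (oneChar G : G → ℂ) w) =
        (lc (1 : Lin P) : ↥(P : Subgroup G) → ℂ) from funext fun w => by simp [oneChar, lc_apply],
        classInner_irr_ne (fun he => hψ₀ (lc_injective he).symm)] at this
      exact_mod_cast this.symm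
    rw [hz] at h1; simpa using h1.symm
  have h1B : oneChar G ∈ (blk M : Finset (IrrCharacter G)) := (mem_blk M).2 one_mem_principalBlock
  have hdeg : ∀ θ ∈ (blk M : Finset (IrrCharacter G)), (charDegree (θ : G → ℂ) : ℤ) =
      (p : ℤ) * E.c θ + E.base θ + E.δ * (fib E θ).card := fun θ hθ => by
    rw [degree_eq h E hθ, hcard]
  have hb1 : E.base (oneChar G) = 1 := by
    have hd := hdeg _ h1B
    rw [hfib1 _ hone, hc1, show charDegree (oneChar G : G → ℂ) = 1 by simp [charDegree, oneChar]] at hd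
    simpa using hd.symm
  have hU1 : U (oneChar G) = (p : ℤ) - 1 := by
    simp only [hUdef]; rw [hb1, hfib1 _ hone]; simp
  -- the squares
  have hsq : ∑ θ ∈ (blk M : Finset (IrrCharacter G)), U θ ^ 2 = ((p : ℤ) - 1) * e * p := by
    have h2 : ∑ θ ∈ (blk M : Finset (IrrCharacter G)), ((U θ : ℂ) ^ 2) = ((p : ℂ) - 1) * e * p := by
      calc _ = ∑ θ ∈ (blk M : Finset (IrrCharacter G)), ∑ u ∈ A, ∑ v ∈ A,
            (θ : G → ℂ) u * conj ((θ : G → ℂ) v) := by
            refine sum_congr rfl fun θ hθ => ?_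
            rw [← sum_mul_sum, ← map_sum, hU θ hθ, map_intCast, sq]
        _ = _ := by
            rw [sum_comm]
            have hrow : ∀ u ∈ A, ∑ θ ∈ (blk M : Finset (IrrCharacter G)), ∑ v ∈ A,
                (θ : G → ℂ) u * conj ((θ : G → ℂ) v) = (e : ℂ) * p := by
              intro u hu
              obtain ⟨-, huP, hu1⟩ := mem_filter.1 hu
              rw [sum_comm, sum_congr rfl fun v hv =>
                sum_blk_mul_conj h hM huP hu1 (mem_filter.1 hv).2.1, hcard, ← sum_filter, sum_const,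
                nsmul_eq_mul, hedef, ← card_fused h huP hu1]
              congr 3
              ext v
              simp only [hA, mem_filter, mem_univ, true_and]
              exact ⟨fun hh => ⟨hh.1.1, hh.2⟩, fun hh => ⟨⟨hh.1, fun e => hu1 (isConj_one_left.1
                (show IsConj u 1 from e ▸ hh.2))⟩, hh.2⟩⟩
            rw [sum_congr rfl hrow, sum_const, nsmul_eq_mul, hAcard, Nat.cast_sub hp.one_le, Nat.cast_one]
            ring
    exact_mod_cast h2
  have hsq' : ∑ θ ∈ (blk M : Finset (IrrCharacter G)).erase (oneChar G), U θ ^ 2 =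
      ((p : ℤ) - 1) * e * p - ((p : ℤ) - 1) ^ 2 := by
    rw [← hsq, ← add_sum_erase _ _ h1B, hU1]; ring
  -- the exceptional family has at least two members
  have hcardY : E.Y.card * e = p - 1 := by rw [hedef, E.card_Y h, hcard]
  have hY2 : 2 ≤ E.Y.card := by
    by_contra hlt
    have : E.Y.card * e ≤ 1 * e := Nat.mul_le_mul_right _ (by omega)
    omega
  have h2e : 2 * e ≤ p - 1 := hcardY ▸ Nat.mul_le_mul_right _ hY2
  have hnorm := E.norm_eq h hM (by rw [hcard]; exact hp.ne_one) hψ₀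
  have hsqX : ∀ θ ∈ E.X, θ ≠ oneChar G → E.base θ ^ 2 + 1 ≤ ∑ η ∈ E.X, E.base η ^ 2 := by
    intro θ hθ hne
    rw [← add_sum_erase _ _ hone, hb1, one_pow, add_comm]
    exact add_le_add (le_refl _) (single_le_sum (f := fun η => E.base η ^ 2) (fun i _ => sq_nonneg _)
      (mem_erase.2 ⟨hne, hθ⟩))
  have hX1 : 1 ≤ ∑ η ∈ E.X, E.base η ^ 2 := by
    rw [← add_sum_erase _ _ hone, hb1, one_pow]
    exact le_add_of_nonneg_right (sum_nonneg fun _ _ => sq_nonneg _)
  have hY2' : (1 : ℤ) ≤ (E.Y.card : ℤ) - 1 := by omega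
  have hU2 : ∀ θ ∈ (blk M : Finset (IrrCharacter G)).erase (oneChar G),
      2 * U θ ≤ ((p : ℤ) - 1) * (charDegree (θ : G → ℂ) : ℤ) := by
    intro θ hθ
    obtain ⟨hne, hθB⟩ := mem_erase.1 hθ
    have hd := hdeg θ hθB
    have hp5 : (5 : ℤ) ≤ p := by exact_mod_cast (show 5 ≤ p by omega)
    have heZ : (2 : ℤ) ≤ e := by exact_mod_cast he2
    have h2eZ : 2 * (e : ℤ) ≤ (p : ℤ) - 1 := by omega
    by_cases hY : θ ∈ E.Y
    · obtain ⟨a, ha, rfl⟩ := E.mem_Y.1 hY
      have hf : (fib E (E.ζ a)).card = e := by rw [hedef, ← h.card_rel ha, ← E.filter_eq_rel ha]; rfl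
      have hb : E.base (E.ζ a) ^ 2 ≤ e := by
        rw [E.base_eq h hM (by rw [hcard]; exact hp.ne_one) ha hψ₀]
        nlinarith [sq_nonneg (E.base (E.ζ ψ₀) - E.δ), mul_le_mul_of_nonneg_right hY2'
          (sq_nonneg (E.base (E.ζ ψ₀)))]
      have hble : E.base (E.ζ a) ≤ e := by nlinarith [Int.le_self_sq (E.base (E.ζ a))]
      have h1 := E.mult_eq _ (E.mem a ha) a ha
      rw [if_pos rfl, mul_one] at h1
      obtain ⟨θ', hθ', hne'⟩ := Finset.exists_mem_ne (s := E.Y) (by omega) (E.ζ a)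
      obtain ⟨a', ha', rfl⟩ := E.mem_Y.1 hθ'
      have h2 := E.mult_eq _ (E.mem a ha) a' ha'
      rw [if_neg hne', mul_zero, add_zero] at h2
      have hm1 : (0 : ℤ) ≤ (mult (E.ζ a) a : ℤ) := by positivity
      have hm2 : (0 : ℤ) ≤ (mult (E.ζ a) a' : ℤ) := by positivity
      simp only [hUdef]
      rw [hf] at hd ⊢
      rw [hd]
      rcases E.sign with hs | hs <;> rw [hs] at h1 ⊢
      · nlinarith [mul_nonneg (mul_nonneg (show (0:ℤ) ≤ (p:ℤ) - 1 by omega) (show (0:ℤ) ≤ (p:ℤ) by omega))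
          (show (0:ℤ) ≤ E.c (E.ζ a) by omega)]
      · nlinarith [mul_le_mul_of_nonneg_left (show (1:ℤ) ≤ E.c (E.ζ a) by omega)
          (mul_nonneg (show (0:ℤ) ≤ (p:ℤ) - 1 by omega) (show (0:ℤ) ≤ (p:ℤ) by omega)),
          mul_le_mul_of_nonneg_left hble (show (0:ℤ) ≤ (p:ℤ) - 1 by omega)]
    · have hθX : θ ∈ E.X := E.mem_X.2 ⟨(mem_blk M).1 hθB, fun ψ hψ e => hY (E.mem_Y.2 ⟨ψ, hψ, e⟩)⟩
      have hb : E.base θ ^ 2 ≤ e := by
        have := hsqX θ hθX hne
        nlinarith [sq_nonneg (E.base (E.ζ ψ₀) - E.δ),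
          mul_nonneg (show (0 : ℤ) ≤ (E.Y.card : ℤ) - 1 by omega) (sq_nonneg (E.base (E.ζ ψ₀)))]
      have h1 := E.mult_eq θ ((mem_blk M).1 hθB) ψ₀ hψ₀
      rw [if_neg ((E.mem_X.1 hθX).2 ψ₀ hψ₀), mul_zero, add_zero] at h1
      have hm1 : (0 : ℤ) ≤ (mult θ ψ₀ : ℤ) := by positivity
      have hd0 : (0 : ℤ) ≤ (charDegree (θ : G → ℂ) : ℤ) := by positivity
      simp only [hUdef]
      rw [hfib1 θ hθX] at hd ⊢
      simp only [Nat.cast_zero, mul_zero, sub_zero, add_zero] at hd ⊢
      rcases eq_or_lt_of_le (h1 ▸ hm1 : (0 : ℤ) ≤ E.c θ) with hcz | hcz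
      · rw [← hcz, mul_zero, zero_add] at hd
        exfalso
        obtain ⟨x, hx⟩ : A.Nonempty := card_pos.1 (by omega)
        obtain ⟨-, hxP, hx1⟩ := mem_filter.1 hx
        refine hne (AbelianFree.eq_one_of_value (t := x) (fun K hK hxK =>
          (Subgroup.Normal.eq_bot_or_eq_top hK).resolve_left fun h' => hx1 (Subgroup.mem_bot.1 (h' ▸ hxK))) ?_)
        have hpart : IsPPart p x x := ⟨1, mul_one x, Commute.one_right x, h.orderOf_mem hxP,
          by simp [hp.ne_one]⟩
        rw [E.value_X h hM hθX hpart hxP hx1]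
        obtain ⟨d, hd'⟩ := isCharacter_degree (isCharacter_irr θ)
        rw [charDegree, hd', Complex.natCast_re, Nat.floor_natCast] at hd
        rw [hd']
        exact_mod_cast hd.symm
      · have hbp : E.base θ ≤ (p : ℤ) * E.c θ := by
          nlinarith [Int.le_self_sq (E.base θ),
            mul_le_mul_of_nonneg_left (show (1:ℤ) ≤ E.c θ by omega) (show (0:ℤ) ≤ (p:ℤ) by omega)]
        rw [hd]
        nlinarith
  -- the count
  have hmain : Tot = (Nat.card G : ℂ) * (((p : ℂ) - 1) ^ 2 - ((p : ℂ) * e)⁻¹ *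
      ∑ θ ∈ (blk M : Finset (IrrCharacter G)), (U θ : ℂ) ^ 3 / (charDegree (θ : G → ℂ) : ℂ)) := by
    have hdc : ∀ θ : IrrCharacter G, (charDegree (θ : G → ℂ) : ℂ) = (θ : G → ℂ) 1 := fun θ => by
      obtain ⟨d, hd⟩ := isCharacter_degree (isCharacter_irr θ)
      rw [charDegree, hd, Complex.natCast_re, Nat.floor_natCast]
    calc Tot = ∑ θ : IrrCharacter G, ((Nat.card G : ℂ) * classInner R (θ : G → ℂ)) *
          ((∑ u ∈ A, (θ : G → ℂ) u) ^ 2 / (θ : G → ℂ) 1) := by
          simp only [hTot, sum_conj_products hRc]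
          rw [sum_congr rfl fun x _ => sum_comm, sum_comm]
          refine sum_congr rfl fun θ _ => ?_
          rw [sq, sum_mul_sum, sum_div, mul_sum]
          refine sum_congr rfl fun x _ => ?_
          rw [sum_div, mul_sum]
      _ = _ := by
          simp only [hcoef, mul_sub, sub_mul, mul_ite, ite_mul, mul_zero, zero_mul, sum_sub_distrib]
          rw [sum_ite_eq' univ (oneChar G), if_pos (mem_univ _), hU _ h1B, hU1, ← sum_filter,
            show (univ.filter fun θ => θ ∈ (blk M : Finset (IrrCharacter G))) = blk M from filter_univ_mem _,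
            mul_sum, mul_sum]
          congr 1
          · simp [oneChar]
          · exact sum_congr rfl fun θ hθ => by rw [hU θ hθ, hdc]; ring
  have hreal : (t : ℝ) = (Nat.card G : ℝ) * (((p : ℝ) - 1) ^ 2 - ((p : ℝ) * e)⁻¹ *
      ∑ θ ∈ (blk M : Finset (IrrCharacter G)), (U θ : ℝ) ^ 3 / (charDegree (θ : G → ℂ) : ℝ)) := by
    apply Complex.ofReal_injective
    push_cast
    rw [← ht]; exact hmain
  set S := ∑ θ ∈ (blk M : Finset (IrrCharacter G)).erase (oneChar G),
    (U θ : ℝ) ^ 3 / (charDegree (θ : G → ℂ) : ℝ) with hS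
  rw [← add_sum_erase _ _ h1B, hU1, show charDegree (oneChar G : G → ℂ) = 1 by simp [charDegree, oneChar],
    ← hS] at hreal
  push_cast at hreal
  rw [div_one] at hreal
  have hSle : S ≤ (((p : ℝ) - 1) / 2) * (((p : ℝ) - 1) * e * p - ((p : ℝ) - 1) ^ 2) := by
    have h1 : S ≤ ∑ θ ∈ (blk M : Finset (IrrCharacter G)).erase (oneChar G),
        (((p : ℝ) - 1) / 2) * (U θ : ℝ) ^ 2 := by
      refine sum_le_sum fun θ hθ => ?_
      have h2 : 2 * (U θ : ℝ) ≤ ((p : ℝ) - 1) * (charDegree (θ : G → ℂ) : ℝ) := by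
        exact_mod_cast hU2 θ hθ
      have hdpos : (0 : ℝ) < (charDegree (θ : G → ℂ) : ℝ) := by
        obtain ⟨d, hd0, hd⟩ := isIrrCharacter_degree θ.2
        rw [charDegree, hd, Complex.natCast_re, Nat.floor_natCast]
        exact_mod_cast hd0
      rw [div_le_iff₀ hdpos]
      nlinarith [mul_le_mul_of_nonneg_left h2 (sq_nonneg (U θ : ℝ))]
    refine h1.trans (le_of_eq ?_)
    rw [← mul_sum]
    congr 1
    exact_mod_cast hsq'
  have hGpos : (0 : ℝ) < Nat.card G := Nat.cast_pos.2 Nat.card_pos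
  have htR : (t : ℝ) ≤ ((p : ℝ) - 1) * Nat.card G := by
    rw [← Nat.cast_one, ← Nat.cast_sub hp.one_le, ← Nat.cast_mul]
    exact_mod_cast htle
  rw [hreal, mul_comm ((p : ℝ) - 1) (Nat.card G : ℝ), mul_le_mul_iff_of_pos_left hGpos] at htR
  have hpR : (5 : ℝ) ≤ p := by exact_mod_cast (show 5 ≤ p by omega)
  have heR : (2 : ℝ) ≤ e := by exact_mod_cast he2
  have hpe : (0 : ℝ) < (p : ℝ) * e := by positivity
  rw [inv_mul_eq_div, sub_le_iff_le_add, ← sub_le_iff_le_add', le_div_iff₀ hpe] at htR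
  nlinarith [mul_le_mul_of_nonneg_right heR (show (0 : ℝ) ≤ (p : ℝ) * ((p : ℝ) - 3) by nlinarith)]

end CfsgLib.Block.PairSolvable
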